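import Cfsg.Agent.H49.StabMax

/-!
# A skew square root of a scalar on a four-dimensional symplectic space

Frames, elements built from frames, and root elements on an isotropic plane given by three
coefficients. Used for the overgroups of `GL₂(q).2` and `GU₂(q).2` in `Sp₄(q)`.
-/

set_option autoImplicit false
set_option linter.unusedSimpArgs false

namespace H48.SkewFour

open Matrix H49
open H48 (sf tv)

variable {F : Type*} [Field F]

local notation "V" => (Fin 2 ⊕ Fin 2 → F)
local notation "Sp" => Matrix.symplecticGroup (Fin 2) F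

/-- Skew maps with square a non-zero scalar. -/
structure Str (L : (Fin 2 ⊕ Fin 2 → F) →ₗ[F] (Fin 2 ⊕ Fin 2 → F)) (ν : F) : Prop where
  skew : ∀ x y, sf (L x) y = - sf x (L y)
  sq : ∀ x, L (L x) = ν • x
  nu : ν ≠ 0
  two : (2 : F) ≠ 0

/-- A hyperbolic frame adapted to `L`. -/
structure Frame (L : (Fin 2 ⊕ Fin 2 → F) →ₗ[F] (Fin 2 ⊕ Fin 2 → F))
    (v w : Fin 2 ⊕ Fin 2 → F) : Prop where
  hv : sf (L v) v = 0
  hw : sf (L w) w = 0
  one : sf v w = 1
  zero : sf (L v) w = 0

/-- Four vectors with two skew pairs are independent. -/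
theorem li_of_pairs {e : Fin 4 → V} (h01 : sf (e 0) (e 1) = 0) (h23 : sf (e 2) (e 3) = 0)
    (h03 : sf (e 0) (e 3) = 0) (h12 : sf (e 1) (e 2) = 0)
    (h02 : sf (e 0) (e 2) ≠ 0) (h13 : sf (e 1) (e 3) ≠ 0) : LinearIndependent F e := by
  rw [Fintype.linearIndependent_iff]
  intro c hc
  simp only [Fin.sum_univ_four] at hc
  have k0 : c 0 = 0 := by
    have := congrArg (sf · (e 2)) hc
    simp only [map_add, map_smul, LinearMap.add_apply, LinearMap.smul_apply, smul_eq_mul, H48.sf_self,
      h12, H48.sf_eq_zero_comm h23, map_zero, LinearMap.zero_apply, mul_zero, add_zero] at this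
    exact (mul_eq_zero.1 this).resolve_right h02
  have k1 : c 1 = 0 := by
    have := congrArg (sf · (e 3)) hc
    simp only [map_add, map_smul, LinearMap.add_apply, LinearMap.smul_apply, smul_eq_mul, H48.sf_self,
      h03, h23, map_zero, LinearMap.zero_apply, mul_zero, add_zero, zero_add] at this
    exact (mul_eq_zero.1 this).resolve_right h13
  have k2 : c 2 = 0 := by
    have := congrArg (sf (e 0)) hc
    simp only [map_add, map_smul, smul_eq_mul, H48.sf_self, h01, h03, map_zero, mul_zero, add_zero,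
      zero_add] at this
    exact (mul_eq_zero.1 this).resolve_right h02
  have k3 : c 3 = 0 := by
    have := congrArg (sf (e 1)) hc
    simp only [map_add, map_smul, smul_eq_mul, H48.sf_self, h12, H48.sf_eq_zero_comm h01, map_zero,
      mul_zero, add_zero, zero_add] at this
    exact (mul_eq_zero.1 this).resolve_right h13
  intro i
  fin_cases i
  exacts [k0, k1, k2, k3]

theorem span_four {e : Fin 4 → V} (h : LinearIndependent F e) : Submodule.span F (Set.range e) = ⊤ :=
  h.span_eq_top_of_card_eq_finrank (by simp)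

theorem expand_four {e : Fin 4 → V} (h : LinearIndependent F e) (u : V) :
    ∃ a b c d : F, u = a • e 0 + b • e 1 + c • e 2 + d • e 3 := by
  obtain ⟨c, hc⟩ := (Submodule.mem_span_range_iff_exists_fun F).1
    (show u ∈ Submodule.span F (Set.range e) by rw [span_four h]; trivial)
  exact ⟨c 0, c 1, c 2, c 3, by rw [← hc, Fin.sum_univ_four]⟩

/-- The root element on the plane of `x, y` with the given coefficients. -/
def rt (x y : Fin 2 ⊕ Fin 2 → F) (α β γ : F) : Matrix.symplecticGroup (Fin 2) F :=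
  tv x (α - β) * tv y (γ - β) * tv (x + y) β

section rt

variable {x y : Fin 2 ⊕ Fin 2 → F} (hxy : sf x y = 0)
include hxy

theorem rt_smul (α β γ : F) (w : V) : rt x y α β γ • w =
    w + (α * sf w x + β * sf w y) • x + (β * sf w x + γ * sf w y) • y := by
  simp only [rt, mul_smul, H48.tv_smul, map_add, LinearMap.add_apply, map_smul, LinearMap.smul_apply,
    smul_eq_mul, H48.sf_self, hxy, H48.sf_eq_zero_comm hxy, mul_zero, add_zero]
  module

theorem rt_mul (α β γ α' β' γ' : F) :
    rt x y α β γ * rt x y α' β' γ' = rt x y (α + α') (β + β') (γ + γ') := by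
  refine H48.sp_ext fun w => ?_
  simp only [mul_smul, rt_smul hxy, map_add, LinearMap.add_apply, map_smul, LinearMap.smul_apply,
    smul_eq_mul, H48.sf_self, hxy, H48.sf_eq_zero_comm hxy, mul_zero, add_zero]
  module

omit hxy in
theorem rt_zero : rt x y 0 0 0 = 1 := by simp [rt]

theorem rt_pure (p q c : F) : rt x y (p * p * c) (p * q * c) (q * q * c) = tv (p • x + q • y) c := by
  refine H48.sp_ext fun w => ?_
  rw [rt_smul hxy, H48.tv_smul, map_add, map_smul, map_smul, smul_eq_mul, smul_eq_mul]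
  module

theorem rt_cross (c : F) : rt x y 0 c 0 = rt y x 0 c 0 := by
  refine H48.sp_ext fun w => ?_
  rw [rt_smul hxy, rt_smul (H48.sf_eq_zero_comm hxy)]
  module

omit hxy in
theorem rt_conj (g : Sp) (α β γ : F) : g * rt x y α β γ * g⁻¹ = rt (g • x) (g • y) α β γ := by
  rw [rt, rt, ← smul_add, ← H48.tv_conj, ← H48.tv_conj, ← H48.tv_conj]
  group

/-- Change of basis. -/
theorem rt_change (p q r s α β γ : F) : rt (p • x + q • y) (r • x + s • y) α β γ =
    rt x y (α * p * p + 2 * β * p * r + γ * r * r) (α * p * q + β * (p * s + q * r) + γ * r * s)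
      (α * q * q + 2 * β * q * s + γ * s * s) := by
  have h' : sf (p • x + q • y) (r • x + s • y) = 0 := by
    simp [hxy, H48.sf_eq_zero_comm hxy]
  refine H48.sp_ext fun w => ?_
  simp only [rt_smul hxy, rt_smul h', map_add, LinearMap.add_apply, map_smul, LinearMap.smul_apply,
    smul_eq_mul, smul_add, smul_smul]
  module

/-- The coefficients are determined when `x, y` are independent. -/
theorem rt_inj (hli : LinearIndependent F ![x, y]) {α β γ α' β' γ' : F}
    (h : rt x y α β γ = rt x y α' β' γ') : α = α' ∧ β = β' ∧ γ = γ' := by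
  have hx : x ∉ Submodule.span F ({y} : Set V) := by
    intro hm
    obtain ⟨a, ha⟩ := Submodule.mem_span_singleton.1 hm
    have h1 := (LinearIndependent.pair_iff.1 hli) 1 (-a) (by rw [← ha]; module)
    exact one_ne_zero h1.1
  have hy : y ∉ Submodule.span F ({x} : Set V) := by
    intro hm
    obtain ⟨a, ha⟩ := Submodule.mem_span_singleton.1 hm
    have h1 := (LinearIndependent.pair_iff.1 hli) a (-1) (by rw [← ha]; module)
    exact one_ne_zero (neg_eq_zero.1 h1.2)
  obtain ⟨z, hz, hzx⟩ := H48.exists_sep hx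
  obtain ⟨z', hz', hzy⟩ := H48.exists_sep hy
  have k : ∀ u, (α - α') * sf u x + (β - β') * sf u y = 0 ∧
      (β - β') * sf u x + (γ - γ') * sf u y = 0 := by
    intro u
    have h1 : rt x y α β γ • u = rt x y α' β' γ' • u := by rw [h]
    rw [rt_smul hxy, rt_smul hxy, add_assoc, add_assoc, add_right_inj] at h1
    exact (LinearIndependent.pair_iff.1 hli) _ _ (by linear_combination (norm := module) h1)
  have hz1 : sf z y = 0 := H48.sf_eq_zero_comm (hz y (Submodule.mem_span_singleton_self _))
  have hz2 : sf z' x = 0 := H48.sf_eq_zero_comm (hz' x (Submodule.mem_span_singleton_self _))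
  have hz3 : sf z x ≠ 0 := fun e => hzx (H48.sf_eq_zero_comm e)
  have hz4 : sf z' y ≠ 0 := fun e => hzy (H48.sf_eq_zero_comm e)
  obtain ⟨e1, e2⟩ := k z
  obtain ⟨-, e3⟩ := k z'
  rw [hz1, mul_zero, add_zero, mul_eq_zero, sub_eq_zero] at e1 e2
  rw [hz2, mul_zero, zero_add, mul_eq_zero, sub_eq_zero] at e3
  exact ⟨e1.resolve_right hz3, e2.resolve_right hz3, e3.resolve_right hz4⟩

end rt

variable {L : (Fin 2 ⊕ Fin 2 → F) →ₗ[F] (Fin 2 ⊕ Fin 2 → F)} {ν : F} (d : Str L ν)
include d

theorem Str.sf_LL (x y : V) : sf (L x) (L y) = -(ν * sf x y) := by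
  rw [d.skew, d.sq, map_smul, smul_eq_mul]

theorem Str.sf_L_comm (x y : V) : sf (L x) y = sf (L y) x := by
  rw [d.skew, H48.sf_swap (L y) x, neg_neg]

theorem Str.sf_L_right (x y : V) : sf x (L y) = -sf (L x) y := by
  rw [d.skew, neg_neg]

theorem Str.hrot (v : V) (a b : F) : sf (L (a • v + b • L v)) (a • v + b • L v) =
    (a * a - ν * b * b) * sf (L v) v := by
  simp only [map_add, map_smul, d.sq, LinearMap.add_apply, LinearMap.smul_apply, smul_eq_mul, H48.sf_self,
    d.sf_L_right v v]
  ring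

/-- The unipotent element of the centraliser attached to an isotropic vector. -/
theorem Str.rt_comm {v : V} (hv : sf (L v) v = 0) (t : F) (u : V) :
    rt v (L v) (-(ν * t)) 0 t • L u = L (rt v (L v) (-(ν * t)) 0 t • u) := by
  have h : sf v (L v) = 0 := H48.sf_eq_zero_comm hv
  simp only [rt_smul h, map_add, map_smul, d.sq, d.sf_LL, d.skew u v, zero_mul, zero_add, add_zero,
    smul_smul]
  module

namespace Frame

variable {v w : Fin 2 ⊕ Fin 2 → F} (hf : Frame L v w)
include hf

theorem v_Lv : sf v (L v) = 0 := H48.sf_eq_zero_comm hf.hv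

theorem w_Lw : sf w (L w) = 0 := H48.sf_eq_zero_comm hf.hw

theorem v_Lw : sf v (L w) = 0 := by rw [d.sf_L_right, hf.zero, neg_zero]

omit d in
theorem w_v : sf w v = -1 := by rw [H48.sf_swap, hf.one]

theorem Lv_Lw : sf (L v) (L w) = -ν := by rw [d.sf_LL, hf.one, mul_one]

theorem li : LinearIndependent F ![v, L v, w, L w] := by
  refine li_of_pairs ?_ ?_ ?_ ?_ ?_ ?_ <;> simp only [Matrix.cons_val_zero, Matrix.cons_val_one,
    Matrix.cons_val_two, Matrix.cons_val_three, Matrix.head_cons, Matrix.tail_cons]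
  exacts [hf.v_Lv d, hf.w_Lw d, hf.v_Lw d, hf.zero, by rw [hf.one]; exact one_ne_zero,
    by rw [hf.Lv_Lw d]; exact neg_ne_zero.2 d.nu]

theorem li_pair : LinearIndependent F ![v, L v] := by
  have h := (hf.li d).comp ![(0 : Fin 4), 1] (by decide)
  convert h using 1
  funext i; fin_cases i <;> rfl

theorem expand (u : V) : ∃ a b c e : F, u = a • v + b • L v + c • w + e • L w :=
  expand_four (hf.li d) u

/-- The frame with the two halves exchanged. -/
theorem flip : Frame L w (-v) := by
  refine ⟨hf.hw, by simpa using hf.hv, by simp [hf.w_v], ?_⟩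
  rw [map_neg, d.sf_L_comm, hf.zero, neg_zero]

/-- Rotated frames. -/
theorem rot {a b : F} (h : a * a - ν * b * b ≠ 0) :
    Frame L (a • v + b • L v) ((a * a - ν * b * b)⁻¹ • (a • w + b • L w)) := by
  refine ⟨by rw [d.hrot, hf.hv, mul_zero], ?_, ?_, ?_⟩
  · rw [map_smul, map_smul, map_smul, LinearMap.smul_apply, d.hrot, hf.hw]
    simp
  · simp only [map_add, map_smul, LinearMap.add_apply, LinearMap.smul_apply, smul_eq_mul, hf.one, hf.zero,
      hf.v_Lw d, hf.Lv_Lw d]
    linear_combination mul_inv_cancel₀ h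
  · simp only [map_add, map_smul, d.sq, LinearMap.add_apply, LinearMap.smul_apply, smul_eq_mul, hf.one,
      hf.zero, hf.v_Lw d, hf.Lv_Lw d]
    ring

end Frame

omit d in
theorem exists_map_four {e e' : Fin 4 → V} (he : LinearIndependent F e) (he' : LinearIndependent F e')
    (hg : ∀ i j, sf (e i) (e j) = sf (e' i) (e' j)) : ∃ h : Sp, ∀ i, h • e i = e' i := by
  obtain ⟨h, -, hh⟩ := H48.witt e e' he he' hg
  exact ⟨h, hh⟩

/-- An element carrying one frame to another and commuting or anticommuting with `L`. -/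
theorem Str.exists_map {v w v' w' : V} (hf : Frame L v w) (hf' : Frame L v' w') {s : F}
    (hs : s * s = 1) :
    ∃ h : Sp, h • v = v' ∧ h • w = w' ∧ ∀ x, h • L x = s • L (h • x) := by
  have hli' : LinearIndependent F ![v', s • L v', w', s • L w'] := by
    refine li_of_pairs ?_ ?_ ?_ ?_ ?_ ?_ <;> simp only [Matrix.cons_val_zero, Matrix.cons_val_one,
      Matrix.cons_val_two, Matrix.cons_val_three, Matrix.head_cons, Matrix.tail_cons, map_smul,
      LinearMap.smul_apply, smul_eq_mul, hf'.v_Lv d, hf'.w_Lw d, hf'.v_Lw d, hf'.zero, hf'.one,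
      hf'.Lv_Lw d, mul_zero]
    · exact one_ne_zero
    · rw [← mul_assoc, hs, one_mul]; exact neg_ne_zero.2 d.nu
  obtain ⟨h, hh⟩ := exists_map_four (hf.li d) hli' (by
    intro i j
    fin_cases i <;> fin_cases j <;>
      simp [hf.v_Lv d, hf.w_Lw d, hf.v_Lw d, hf.zero, hf.one, hf.Lv_Lw d, hf'.v_Lv d, hf'.w_Lw d,
        hf'.v_Lw d, hf'.zero, hf'.one, hf'.Lv_Lw d, ← mul_assoc, hs, hf.hv, hf.hw, hf'.hv, hf'.hw,
        H48.sf_swap v w, H48.sf_swap v' w', H48.sf_swap (L v) (L w), H48.sf_swap (L v') (L w'),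
        H48.sf_eq_zero_comm hf.zero, H48.sf_eq_zero_comm hf'.zero,
        H48.sf_eq_zero_comm (hf.v_Lw d), H48.sf_eq_zero_comm (hf'.v_Lw d)])
  have h0 : h • v = v' := hh 0
  have h1 : h • L v = s • L v' := hh 1
  have h2 : h • w = w' := hh 2
  have h3 : h • L w = s • L w' := hh 3
  refine ⟨h, h0, h2, fun x => ?_⟩
  obtain ⟨a, b, c, e, rfl⟩ := hf.expand d x
  simp only [map_add, map_smul, d.sq, smul_add, smul_comm h, h0, h1, h2, h3, smul_smul]
  match_scalars <;>
    first
      | ring1
      | linear_combination (-(b * ν)) * hs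
      | linear_combination (-(e * ν)) * hs

end H48.SkewFour
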