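import Cfsg.Agent.H48.SkewFour.Base

/-!
# A root element outside the centraliser in a standard plane gives the whole group
-/

set_option autoImplicit false
set_option linter.unusedSimpArgs false

namespace H48.SkewFour

open Matrix H49
open H48 (sf tv)

variable {F : Type*} [Field F]

local notation "V" => (Fin 2 ⊕ Fin 2 → F)
local notation "Sp" => Matrix.symplecticGroup (Fin 2) F

/-- An overgroup of the normaliser. -/
structure Over (L : (Fin 2 ⊕ Fin 2 → F) →ₗ[F] (Fin 2 ⊕ Fin 2 → F))
    (K : Subgroup (Matrix.symplecticGroup (Fin 2) F)) : Prop where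
  comm : ∀ h : Matrix.symplecticGroup (Fin 2) F, (∀ x, h • L x = L (h • x)) → h ∈ K
  anti : ∀ h : Matrix.symplecticGroup (Fin 2) F, (∀ x, h • L x = -L (h • x)) → h ∈ K

/-- The only root elements of the plane of `v` in `K` are those of the centraliser. -/
def NE (L : (Fin 2 ⊕ Fin 2 → F) →ₗ[F] (Fin 2 ⊕ Fin 2 → F)) (ν : F)
    (K : Subgroup (Matrix.symplecticGroup (Fin 2) F)) (v : Fin 2 ⊕ Fin 2 → F) : Prop :=
  ∀ α β γ : F, rt v (L v) α β γ ∈ K → α = -(ν * γ) ∧ β = 0

theorem exists_not_root [Fintype F] (h5 : 5 ≤ Fintype.card F) (ν : F) :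
    ∃ a : F, a ≠ 0 ∧ a * a ≠ ν := by
  classical
  by_contra hcon
  simp only [not_exists, not_and, not_not] at hcon
  obtain ⟨a, ha⟩ : ∃ a : F, a ≠ 0 := exists_ne 0
  have hsub : (Finset.univ : Finset F) ⊆ {0, a, -a} := fun x _ => by
    simp only [Finset.mem_insert, Finset.mem_singleton]
    by_cases hx : x = 0
    · exact Or.inl hx
    · exact Or.inr (mul_self_eq_mul_self_iff.1 ((hcon x hx).trans (hcon a ha).symm))
  have := Finset.card_le_card hsub
  have h3 : Finset.card ({0, a, -a} : Finset F) ≤ 3 := Finset.card_le_three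
  rw [Finset.card_univ] at this
  omega

variable [Fintype F] {L : (Fin 2 ⊕ Fin 2 → F) →ₗ[F] (Fin 2 ⊕ Fin 2 → F)} {ν : F} (d : Str L ν)
  {K : Subgroup (Matrix.symplecticGroup (Fin 2) F)} (hK : Over L K)
include d hK

omit [Fintype F] in
/-- The centraliser root elements lie in `K`. -/
theorem Over.rt_mem {v : V} (hv : sf (L v) v = 0) (t : F) : rt v (L v) (-(ν * t)) 0 t ∈ K :=
  hK.comm _ fun x => d.rt_comm hv t x

omit [Fintype F] in
theorem Over.map_mem {v w v' w' : V} (hf : Frame L v w) (hf' : Frame L v' w') {s : F} (hs : s * s = 1) :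
    ∃ h : Sp, h ∈ K ∧ h • v = v' ∧ h • L v = s • L v' ∧ h • w = w' ∧ h • L w = s • L w' := by
  obtain ⟨h, h1, h2, h3⟩ := d.exists_map hf hf' hs
  refine ⟨h, ?_, h1, by rw [h3, h1], h2, by rw [h3, h2]⟩
  rcases mul_self_eq_one_iff.1 hs with rfl | rfl
  · exact hK.comm h fun x => by rw [h3, one_smul]
  · exact hK.anti h fun x => by rw [h3, neg_one_smul]

theorem eq_top_of_not_ne (h5 : 5 ≤ Fintype.card F) {v w : V} (hf : Frame L v w)
    (hne : ¬ NE L ν K v) : K = ⊤ := by
  classical
  have hν := d.nu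
  have h2 := d.two
  have hvL := hf.v_Lv d
  let W : F → F → F → Prop := fun α β γ => rt v (L v) α β γ ∈ K
  have hadd : ∀ {α β γ α' β' γ'}, W α β γ → W α' β' γ' → W (α + α') (β + β') (γ + γ') := by
    intro α β γ α' β' γ' h h'
    show _ ∈ K
    rw [← rt_mul hvL]
    exact mul_mem h h'
  have hneg : ∀ {α β γ}, W α β γ → W (-α) (-β) (-γ) := by
    intro α β γ h
    have e : rt v (L v) (-α) (-β) (-γ) = (rt v (L v) α β γ)⁻¹ :=
      eq_inv_of_mul_eq_one_left (by rw [rt_mul hvL]; simp [rt_zero])
    show _ ∈ K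
    rw [e]
    exact inv_mem h
  have hrot : ∀ {a b : F}, a * a - ν * b * b ≠ 0 → ∀ {α β γ}, W α β γ →
      W (α * a * a + 2 * β * a * (b * ν) + γ * (b * ν) * (b * ν))
        (α * a * b + β * (a * a + b * (b * ν)) + γ * (b * ν) * a)
        (α * b * b + 2 * β * b * a + γ * a * a) := by
    intro a b hab α β γ hW
    obtain ⟨h, hh, e1, e2, -, -⟩ := hK.map_mem d hf (hf.rot d hab) (one_mul (1 : F))
    have hc := mul_mem (mul_mem hh hW) (inv_mem hh)
    rw [rt_conj, e1, e2, one_smul, map_add, map_smul, map_smul, d.sq, smul_smul,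
      add_comm (a • L v)] at hc
    rwa [rt_change hvL] at hc
  have hsq : ∀ (t : F) {α β γ}, W α β γ → W (t * t * α) (t * t * β) (t * t * γ) := by
    intro t α β γ hW
    rcases eq_or_ne t 0 with rfl | ht
    · show _ ∈ K
      simp only [mul_zero, zero_mul, rt_zero]
      exact one_mem _
    have := hrot (a := t) (b := 0) (by simpa using ht) hW
    show _ ∈ K
    convert this using 2 <;> ring
  have hsc : ∀ (c : F) {α β γ}, W α β γ → W (c * α) (c * β) (c * γ) := by
    intro c α β γ hW
    have := hadd (hsq ((c + 1) / 2) hW) (hneg (hsq ((c - 1) / 2) hW))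
    show _ ∈ K
    convert this using 2 <;> field_simp <;> ring
  have hN : W (-ν) 0 1 := by
    have := hK.rt_mem d hf.hv 1
    rwa [mul_one] at this
  -- both complements
  obtain ⟨hM1, hM2⟩ : W ν 0 1 ∧ W 0 1 0 := by
    simp only [NE, not_forall, not_and] at hne
    obtain ⟨α, β, γ, hmem, hbad⟩ := hne
    set x := (α + ν * γ) / (2 * ν) with hx
    have hS : W (ν * x) β x := by
      have := hadd (α := α) (β := β) (γ := γ) hmem (hsc (-(γ - x)) hN)
      show _ ∈ K
      convert this using 2 <;> (rw [hx]; field_simp; ring)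
    have hxy : x ≠ 0 ∨ β ≠ 0 := by
      by_contra hcon
      simp only [not_or, not_not] at hcon
      refine hbad ?_ hcon.2
      have := hcon.1
      rw [hx, div_eq_zero_iff] at this
      exact eq_neg_of_add_eq_zero_left (this.resolve_right (mul_ne_zero h2 hν))
    by_cases hdet : ν * x * x - β * β = 0
    · have hx0 : x ≠ 0 := fun e => hxy.resolve_left (not_not.2 e) (by simpa [e] using hdet)
      have hb0 : β ≠ 0 := fun e => hx0 (by simpa [e, hν] using hdet)
      obtain ⟨h, hh, e1, e2, -, -⟩ := hK.map_mem d hf hf (neg_mul_neg (1 : F) 1 ▸ one_mul (1 : F))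
      have hc := mul_mem (mul_mem hh hS) (inv_mem hh)
      rw [rt_conj, e1, e2] at hc
      have hc' : W (ν * x) (-β) x := by
        show _ ∈ K
        have := rt_change hvL 1 0 0 (-1) (ν * x) β x
        simp only [one_smul, zero_smul, add_zero, zero_add] at this
        rw [this] at hc
        convert hc using 2 <;> ring
      constructor
      · have := hsc (2 * x)⁻¹ (hadd hS hc')
        show _ ∈ K
        convert this using 2 <;> field_simp <;> ring
      · have := hsc (2 * β)⁻¹ (hadd hS (hneg hc'))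
        show _ ∈ K
        convert this using 2 <;> field_simp <;> ring
    · obtain ⟨a, ha, ha2⟩ := exists_not_root h5 ν
      have h1 := hrot (a := a) (b := 1) (by simpa using sub_ne_zero.2 ha2) hS
      have hT : W (ν * β) (ν * x) β := by
        have := hsc (2 * a)⁻¹ (hadd h1 (hsc (-(a * a + ν)) hS))
        show _ ∈ K
        convert this using 2 <;> field_simp <;> ring
      constructor
      · have := hsc (ν * x * x - β * β)⁻¹ (hadd (hsc (ν * x) hS) (hsc (-β) hT))
        show _ ∈ K
        convert this using 2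
        · linear_combination (-ν) * inv_mul_cancel₀ hdet
        · ring
        · linear_combination -(inv_mul_cancel₀ hdet)
      · have := hsc (ν * x * x - β * β)⁻¹ (hadd (hsc x hT) (hsc (-β) hS))
        show _ ∈ K
        convert this using 2
        · ring
        · linear_combination -(inv_mul_cancel₀ hdet)
        · ring
  have hall : ∀ α β γ : F, W α β γ := by
    intro α β γ
    have := hadd (hadd (hsc ((γ - α / ν) / 2) hN) (hsc ((γ + α / ν) / 2) hM1)) (hsc β hM2)
    show _ ∈ K
    convert this using 2 <;> field_simp <;> ring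
  have hctr : ∀ p q : F, IsCtr K (p • v + q • L v) := fun p q c => by
    rw [← rt_pure hvL]; exact hall _ _ _
  obtain ⟨h, hh, e1, e2, -, -⟩ := hK.map_mem d hf (hf.flip d) (one_mul (1 : F))
  rw [one_smul] at e2
  have hctr' : ∀ p q : F, IsCtr K (p • w + q • L w) := fun p q => by
    have := (hctr p q).group_smul hh
    rwa [smul_add, smul_comm h p, smul_comm h q, e1, e2] at this
  refine H49.eq_top_of_ctr K fun u => ?_
  obtain ⟨a, b, c, e, rfl⟩ := hf.expand d u
  rw [add_assoc]
  set x := a • v + b • L v with hx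
  set y := c • w + e • L w with hy
  by_cases hxy : sf x y ≠ 0
  · simpa using (hctr a b).add_smul_of_ne (hctr' c e) hxy 1
  rw [not_not] at hxy
  rcases eq_or_ne x 0 with h0 | h0
  · rw [h0, zero_add]; exact hctr' c e
  obtain ⟨p, q, hp⟩ : ∃ p q : F, sf x (p • w + q • L w) ≠ 0 := by
    by_cases ha : a = 0
    · refine ⟨0, 1, ?_⟩
      have hb : b ≠ 0 := fun hb => h0 (by simp [hx, ha, hb])
      simp [hx, ha, hb, hν, hf.Lv_Lw d]
    · exact ⟨1, 0, by simp [hx, hf.one, hf.zero, ha]⟩
  set y₁ := p • w + q • L w with hy₁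
  have hz : IsCtr K (x + y₁) := by simpa using (hctr a b).add_smul_of_ne (hctr' p q) hp 1
  have hne' : sf (x + y₁) ((c - p) • w + (e - q) • L w) ≠ 0 := by
    have e2 : (c - p) • w + (e - q) • L w = y - y₁ := by rw [hy, hy₁]; module
    have e3 : sf y₁ y = 0 := by
      simp [hy, hy₁, hf.w_Lw d, hf.hw]
    rw [e2, map_sub]
    have k1 : sf (x + y₁) y = 0 := by rw [LinearMap.map_add₂, hxy, e3, add_zero]
    have k2 : sf (x + y₁) y₁ = sf x y₁ := by rw [LinearMap.map_add₂, H48.sf_self, add_zero]
    rw [k1, k2]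
    simpa using hp
  have := hz.add_smul_of_ne (hctr' (c - p) (e - q)) hne' 1
  have e4 : x + y₁ + (1 : F) • ((c - p) • w + (e - q) • L w) = x + y := by
    rw [hy, hy₁]; module
  rwa [e4] at this

end H48.SkewFour
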