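import Cfsg.Agent.H48.SkewFour.Plane
import Cfsg.Agent.H49.ShortRoot

/-!
# A conjugate root group in a plane in general position forces a transvection
-/

set_option autoImplicit false
set_option linter.unusedSimpArgs false

namespace H48.SkewFour

open Matrix H49
open H48 (sf tv)

variable {F : Type*} [Field F]

local notation "V" => (Fin 2 ⊕ Fin 2 → F)
local notation "Sp" => Matrix.symplecticGroup (Fin 2) F

theorem sroot_eq_rt {x y : V} (h : sf x y = 0) (c : F) : sroot x y c = rt x y 0 c 0 := by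
  refine H48.sp_ext fun w => ?_
  rw [sroot_smul h, rt_smul h]
  module

theorem isShort_of_cross {K : Subgroup (Matrix.symplecticGroup (Fin 2) F)} {x y : V} {δ : F}
    (hp : Pl K x y 0 δ 0) : IsShort K x y := by
  have hδ : δ ≠ 0 := fun e => hp.nd (by rw [e]; ring)
  refine ⟨hp.iso, fun c => ?_⟩
  rw [sroot_eq_rt hp.iso]
  have := hp.mem (c / δ)
  rwa [mul_zero, div_mul_cancel₀ c hδ] at this

/-- An element fixing `e, L e` and unipotent on the complementary plane is a transvection. -/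
theorem transvection_of_trace {e₁ e₂ f f' : V} (li : LinearIndependent F ![e₁, f, e₂, f'])
    (hef : sf e₁ f = 0) (he'f : sf e₂ f = 0) (hef' : sf e₁ f' = 0) (he'f' : sf e₂ f' = 0)
    (hG : sf f f' ≠ 0) {g : Sp} (g1 : g • e₁ = e₁) (g2 : g • e₂ = e₂) {A B C D : F}
    (g3 : g • f = A • f + C • f') (g4 : g • f' = B • f + D • f') (htr : A + D = 2)
    (hne : C ≠ 0 ∨ B ≠ 0) : ∃ (u : V) (c : F), u ≠ 0 ∧ c ≠ 0 ∧ g = tv u c := by
  have hdet : A * D - C * B = 1 := by
    have h := H48.sf_smul_smul g f f'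
    rw [g3, g4] at h
    simp only [map_add, map_smul, LinearMap.add_apply, LinearMap.smul_apply, smul_eq_mul, H48.sf_self,
      H48.sf_swap f f'] at h
    have : (A * D - C * B) * sf f f' = 1 * sf f f' := by linear_combination h
    exact mul_right_cancel₀ hG this
  have hfin : ∀ (u : V) (c : F), sf e₁ u = 0 → sf e₂ u = 0 → tv u c • f = A • f + C • f' →
      tv u c • f' = B • f + D • f' → g = tv u c := by
    intro u c h1 h2 h3 h4
    refine H48.sp_ext fun x => ?_
    obtain ⟨a, b, r, s, rfl⟩ := expand_four li x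
    simp only [Matrix.cons_val_zero, Matrix.cons_val_one, Matrix.cons_val_two, Matrix.cons_val_three,
      Matrix.head_cons, Matrix.tail_cons, smul_add, smul_comm g, smul_comm (tv u c), g1, g2, g3, g4, h3,
      h4]
    simp [h1, h2]
  have hf0 : f ≠ 0 := fun e => hG (by rw [e]; simp)
  by_cases hC : C = 0
  · have hA : A = 1 := by
      have : (A - 1) * (A - 1) = 0 := by rw [hC] at hdet; linear_combination (-1 : F) * hdet + A * htr
      exact sub_eq_zero.1 (mul_self_eq_zero.1 this)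
    have hD : D = 1 := by linear_combination htr - hA
    have hB : B ≠ 0 := hne.resolve_left (not_not.2 hC)
    refine ⟨f, -(B / sf f f'), hf0, neg_ne_zero.2 (div_ne_zero hB hG), hfin _ _ hef he'f ?_ ?_⟩
    · simp [hA, hC]
    · simp only [H48.tv_smul, H48.sf_swap f f', neg_mul_neg, div_mul_cancel₀ _ hG, hD, one_smul]
      abel
  · set u := (A - 1) • f + C • f' with hu
    have hfu : sf f u = C * sf f f' := by simp [hu]
    have hf'u : sf f' u = -((A - 1) * sf f f') := by simp [hu, H48.sf_swap f f']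
    refine ⟨u, (C * sf f f')⁻¹, fun e => mul_ne_zero hC hG (by rw [← hfu, e]; simp),
      inv_ne_zero (mul_ne_zero hC hG), hfin _ _ (by simp [hu, hef, hef']) (by simp [hu, he'f, he'f']) ?_ ?_⟩
    · rw [H48.tv_smul, hfu, inv_mul_cancel₀ (mul_ne_zero hC hG), hu]
      module
    · rw [H48.tv_smul, hf'u, hu]
      match_scalars
      · field_simp
        linear_combination -htr
      · field_simp
        linear_combination hdet + (-A) * htr

theorem norm_param {ν P Q D : F} (hD : D ≠ 0) (h : P * P - ν * Q * Q = D * D) :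
    P / D * (P / D) - ν * (Q / D) * (Q / D) = 1 := by
  field_simp
  linear_combination h

/-- Norm one elements with both parts non-zero. -/
theorem exists_norm_one [Fintype F] (h5 : 5 ≤ Fintype.card F) {ν : F} (hν : ν ≠ 0) (h2 : (2 : F) ≠ 0) :
    ∃ a b : F, a * a - ν * b * b = 1 ∧ b ≠ 0 := by
  obtain ⟨s, hs, hs2⟩ := exists_not_root h5 (1 / ν)
  have hd : 1 - ν * s * s ≠ 0 := fun e => hs2 (by rw [eq_div_iff hν]; linear_combination -e)
  refine ⟨(1 + ν * s * s) / (1 - ν * s * s), 2 * s / (1 - ν * s * s), ?_, div_ne_zero (mul_ne_zero h2 hs) hd⟩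
  exact norm_param hd (by ring)

/-- Norm one elements with both parts non-zero, non-square case. -/
theorem exists_norm_one_ne [Fintype F] (h5 : 5 ≤ Fintype.card F) {ν : F} (hns : ¬ IsSquare ν)
    (h2 : (2 : F) ≠ 0) : ∃ a b : F, a * a - ν * b * b = 1 ∧ a ≠ 0 ∧ b ≠ 0 := by
  have hν : ν ≠ 0 := fun e => hns ⟨0, by rw [e, mul_zero]⟩
  obtain ⟨s, hs, hs2⟩ := exists_not_root h5 (-1 / ν)
  have hd : 1 - ν * s * s ≠ 0 := fun e => hns ⟨1 / s, by field_simp; linear_combination -e⟩
  have hn : 1 + ν * s * s ≠ 0 := fun e => hs2 (by rw [eq_div_iff hν]; linear_combination e)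
  refine ⟨(1 + ν * s * s) / (1 - ν * s * s), 2 * s / (1 - ν * s * s), ?_, div_ne_zero hn hd,
    div_ne_zero (mul_ne_zero h2 hs) hd⟩
  exact norm_param hd (by ring)

theorem isSquare_mul_of_not [Fintype F] (h2 : (2 : F) ≠ 0) {a b : F} (ha : ¬ IsSquare a)
    (hb : ¬ IsSquare b) : IsSquare (a * b) := by
  have hF : ringChar F ≠ 2 := fun e => h2 (by
    haveI : CharP F 2 := e ▸ ringChar.charP F
    exact CharTwo.two_eq_zero)
  have ha0 : a ≠ 0 := fun e => ha ⟨0, by rw [e, mul_zero]⟩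
  have hb0 : b ≠ 0 := fun e => hb ⟨0, by rw [e, mul_zero]⟩
  rw [FiniteField.isSquare_iff hF (mul_ne_zero ha0 hb0), mul_pow,
    (FiniteField.pow_dichotomy hF ha0).resolve_left ((FiniteField.isSquare_iff hF ha0).not.1 ha),
    (FiniteField.pow_dichotomy hF hb0).resolve_left ((FiniteField.isSquare_iff hF hb0).not.1 hb),
    neg_one_mul, neg_neg]

variable [Fintype F] {L : (Fin 2 ⊕ Fin 2 → F) →ₗ[F] (Fin 2 ⊕ Fin 2 → F)} {ν : F} (d : Str L ν)
  {K : Subgroup (Matrix.symplecticGroup (Fin 2) F)} (hK : Over L K)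
  {e f : Fin 2 ⊕ Fin 2 → F}
include d hK

omit [Fintype F] in
/-- Rotations of the complement of `e, L e`. -/
theorem exists_fix_rot (hef : sf e f = 0) (hBef : sf (L e) f = 0) (hβ : sf (L e) e ≠ 0)
    (hγ : sf (L f) f ≠ 0) {a b : F} (hab : a * a - ν * b * b = 1) :
    LinearIndependent F ![e, f, L e, L f] ∧
      ∃ h : Sp, h ∈ K ∧ h • e = e ∧ h • L e = L e ∧ h • f = a • f + b • L f ∧
        h • L f = (b * ν) • f + a • L f := by
  set f₁ := a • f + b • L f with hf₁
  have hLf₁ : L f₁ = (b * ν) • f + a • L f := by rw [hf₁, map_add, map_smul, map_smul, d.sq]; module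
  have h1 : sf e (L f) = 0 := by rw [d.sf_L_right, hBef, neg_zero]
  have h2 : sf f (L e) = 0 := H48.sf_eq_zero_comm hBef
  have h3 : sf (L e) (L f) = 0 := by rw [d.sf_LL, hef, mul_zero, neg_zero]
  have k1 : sf e f₁ = 0 := by simp [hf₁, hef, h1]
  have k2 : sf (L e) f₁ = 0 := by simp [hf₁, hBef, h3]
  have k3 : sf (L f₁) f₁ = sf (L f) f := by rw [hf₁, d.hrot, hab, one_mul]
  have k4 : sf e (L f₁) = 0 := by rw [d.sf_L_right, k2, neg_zero]
  have k5 : sf (L e) (L f₁) = 0 := by rw [d.sf_LL, k1, mul_zero, neg_zero]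
  have li : LinearIndependent F ![e, f, L e, L f] := by
    refine li_of_pairs ?_ ?_ ?_ ?_ ?_ ?_ <;> simp only [Matrix.cons_val_zero, Matrix.cons_val_one,
      Matrix.cons_val_two, Matrix.cons_val_three, Matrix.head_cons, Matrix.tail_cons]
    exacts [hef, h3, h1, h2, fun e0 => hβ (H48.sf_eq_zero_comm e0), fun e0 => hγ (H48.sf_eq_zero_comm e0)]
  have li' : LinearIndependent F ![e, f₁, L e, L f₁] := by
    refine li_of_pairs ?_ ?_ ?_ ?_ ?_ ?_ <;> simp only [Matrix.cons_val_zero, Matrix.cons_val_one,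
      Matrix.cons_val_two, Matrix.cons_val_three, Matrix.head_cons, Matrix.tail_cons]
    exacts [k1, k5, k4, H48.sf_eq_zero_comm k2, fun e0 => hβ (H48.sf_eq_zero_comm e0),
      fun e0 => hγ (by rw [← k3]; exact H48.sf_eq_zero_comm e0)]
  obtain ⟨h, hh⟩ := exists_map_four li li' (by
    intro i j
    fin_cases i <;> fin_cases j <;>
      simp [hef, h1, h2, h3, hBef, k1, k2, k3, k4, k5, H48.sf_eq_zero_comm hef,
        H48.sf_eq_zero_comm h1, H48.sf_eq_zero_comm h3, H48.sf_eq_zero_comm k1, H48.sf_eq_zero_comm k2,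
        H48.sf_eq_zero_comm k4, H48.sf_eq_zero_comm k5, H48.sf_swap (L f) f, H48.sf_swap (L f₁) f₁])
  have e0 : h • e = e := hh 0
  have e1 : h • f = f₁ := hh 1
  have e2 : h • L e = L e := hh 2
  have e3 : h • L f = L f₁ := hh 3
  refine ⟨li, h, hK.comm h fun x => ?_, e0, e2, e1, e3.trans hLf₁⟩
  obtain ⟨p, q, r, s, rfl⟩ := expand_four li x
  simp only [Matrix.cons_val_zero, Matrix.cons_val_one, Matrix.cons_val_two, Matrix.cons_val_three,
    Matrix.head_cons, Matrix.tail_cons, map_add, map_smul, d.sq, smul_add, smul_comm h, e0, e1, e2, e3]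

/-- Two isotropic lines whose first is non-isotropic for the twisted form. -/
theorem false_of_cross (h5 : 5 ≤ Fintype.card F) (hNT : ∀ (u : V) (c : F), u ≠ 0 → c ≠ 0 → tv u c ∉ K)
    {δ : F} (hp : Pl K e f 0 δ 0) (hnd : sf (L e) e ≠ 0 ∨ sf (L e) f ≠ 0)
    (hgam : ∀ t : F, sf (L (f + t • e)) e = 0 → sf (L (f + t • e)) (f + t • e) ≠ 0) : False := by
  have h2 := d.two
  have hne : e ≠ 0 := by simpa using hp.li.ne_zero 0
  have hS := isShort_of_cross hp
  refine hNT e 1 hne one_ne_zero ?_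
  by_cases hβ : sf (L e) e = 0
  · have hk : sf f (L e) ≠ 0 := fun e0 => hnd.elim (fun h => h hβ) (fun h => h (H48.sf_eq_zero_comm e0))
    have hm := hK.rt_mem d hβ 1
    have heL : sf e (L e) = 0 := H48.sf_eq_zero_comm hβ
    have he : rt e (L e) (-(ν * 1)) 0 1 • e = e := by rw [rt_smul heL, H48.sf_self, heL]; simp
    have h' := hS.group_smul hm
    rw [he] at h'
    refine hS.isCtr h' ?_ h2 1
    rw [rt_smul heL, H48.sf_eq_zero_comm hp.iso]
    simpa using hk
  · obtain ⟨t, ht⟩ : ∃ t : F, sf (L (f + t • e)) e = 0 :=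
      ⟨-(sf (L f) e / sf (L e) e), by simp [hβ]⟩
    set f₀ := f + t • e with hf₀
    obtain ⟨a, b, hab, hb⟩ := exists_norm_one h5 d.nu h2
    have hef : sf e f₀ = 0 := by simp [hf₀, hp.iso]
    have hBef : sf (L e) f₀ = 0 := by rw [d.sf_L_comm, ht]
    have hγ := hgam t ht
    obtain ⟨-, h, hh, e0, -, e1, -⟩ := exists_fix_rot d hK hef hBef hβ hγ hab
    have h' := hS.group_smul hh
    rw [e0] at h'
    refine hS.isCtr h' ?_ h2 1
    have hf : f = f₀ - t • e := by rw [hf₀, add_sub_cancel_right]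
    have e2 : h • f = a • f₀ + b • L f₀ - t • e := by rw [hf, smul_sub, smul_comm h t, e0, e1]
    have k1 : sf f₀ (L f₀) = -sf (L f₀) f₀ := H48.sf_swap _ _
    have k2 : sf e (L f₀) = 0 := by rw [d.sf_L_right, hBef, neg_zero]
    rw [e2, hf]
    simp [hef, H48.sf_eq_zero_comm hef, k1, k2, hb]
    exact hγ

/-- The main case. -/
theorem false_of_anisotropic (h5 : 5 ≤ Fintype.card F) (hns : ¬ IsSquare ν)
    (hNT : ∀ (u : V) (c : F), u ≠ 0 → c ≠ 0 → tv u c ∉ K) {α δ ε : F} (hp : Pl K e f α δ ε)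
    (hBef : sf (L e) f = 0) (hβ : sf (L e) e ≠ 0) (hγ : sf (L f) f ≠ 0) : False := by
  have h2 := d.two
  obtain ⟨li, h, hh, r0, -, r1, -⟩ := exists_fix_rot d hK hp.iso hBef hβ hγ (a := -1) (b := 0) (by ring)
  obtain ⟨t, q1, q2, q3⟩ := hp.stable hh (p := 1) (q := 0) (r := 0) (s := -1)
    (by rw [r0]; simp) (by rw [r1]; simp)
  by_cases hδ : δ ≠ 0
  · have ht : t = -1 := mul_right_cancel₀ hδ (by linear_combination -q2)
    rw [ht] at q1 q3
    have hα : α = 0 := (mul_eq_zero.1 (show 2 * α = 0 by linear_combination q1)).resolve_left h2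
    have hε : ε = 0 := (mul_eq_zero.1 (show 2 * ε = 0 by linear_combination q3)).resolve_left h2
    rw [hα, hε] at hp
    refine false_of_cross d hK h5 hNT hp (Or.inl hβ) fun t ht => ?_
    have : t = 0 := by
      simpa [hβ, d.sf_L_comm f e, hBef] using ht
    simpa [this] using hγ
  rw [not_not] at hδ
  subst hδ
  have hε : ε ≠ 0 := fun e0 => hp.nd (by rw [e0]; ring)
  obtain ⟨a₁, b₁, hab, ha₁, hb₁⟩ := exists_norm_one_ne h5 hns h2
  obtain ⟨-, hr, hrK, s0, -, s1, -⟩ := exists_fix_rot d hK hp.iso hBef hβ hγ hab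
  set u := a₁ • f + b₁ • L f with hu
  have heu : sf e u = 0 := by simp [hu, hp.iso, d.sf_L_right, hBef]
  have hLeu : sf (L e) u = 0 := by simp [hu, d.sf_LL, hp.iso, hBef]
  have hz : ∀ c : F, tv u c * tv f (-c) ∈ K := by
    intro c
    have m1 := mul_mem (mul_mem hrK (hp.mem (c / ε))) (inv_mem hrK)
    rw [rt_conj, s0, s1] at m1
    have m2 := mul_mem m1 (hp.mem (-(c / ε)))
    convert m2 using 1
    refine H48.sp_ext fun x => ?_
    simp only [mul_smul, H48.tv_smul, rt_smul hp.iso, rt_smul heu, map_add, map_smul,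
      LinearMap.add_apply, LinearMap.smul_apply, smul_eq_mul, H48.sf_self, hp.iso,
      H48.sf_eq_zero_comm hp.iso, heu, mul_zero, zero_mul, add_zero, zero_add, neg_mul,
      div_mul_cancel₀ _ hε]
    match_scalars <;> field_simp <;> ring
  set γ := sf (L f) f with hγdef
  have hfL : sf f (L f) = -γ := H48.sf_swap _ _
  have zf : ∀ c, (tv u c * tv f (-c)) • f =
      (1 - c * γ * a₁ * b₁) • f + (-(c * γ * b₁ * b₁)) • L f := by
    intro c
    simp only [mul_smul, H48.tv_smul, H48.sf_self, hu, map_add, map_smul, LinearMap.add_apply,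
      LinearMap.smul_apply, hfL, smul_eq_mul, mul_zero, zero_smul, add_zero]
    module
  have zLf : ∀ c, (tv u c * tv f (-c)) • L f =
      (-(c * γ) + c * a₁ * (a₁ * γ + c * γ * γ * b₁)) • f +
        (1 + c * b₁ * (a₁ * γ + c * γ * γ * b₁)) • L f := by
    intro c
    simp only [mul_smul, H48.tv_smul, H48.sf_self, hu, map_add, map_smul, LinearMap.add_apply,
      LinearMap.smul_apply, hfL, smul_eq_mul, ← hγdef]
    module
  have finish : ∀ (τ : Sp) (c A B C D : F), τ ∈ K → τ • e = e → τ • L e = L e →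
      τ • ((tv u c * tv f (-c)) • f) = A • f + C • L f →
      τ • ((tv u c * tv f (-c)) • L f) = B • f + D • L f → A + D = 2 → (C ≠ 0 ∨ B ≠ 0) → False := by
    intro τ c A B C D hτ t0 t1 t2 t3 htr hne
    have ze : (tv u c * tv f (-c)) • e = e := by simp [mul_smul, hp.iso, heu]
    have zLe : (tv u c * tv f (-c)) • L e = L e := by simp [mul_smul, hBef, hLeu]
    obtain ⟨w, k, hw, hk, heq⟩ := transvection_of_trace (g := τ * (tv u c * tv f (-c))) li hp.iso hBef
      (by rw [d.sf_L_right, hBef, neg_zero]) (by rw [d.sf_LL, hp.iso, mul_zero, neg_zero])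
      (by rw [hfL]; exact neg_ne_zero.2 hγ) (by rw [mul_smul, ze, t0]) (by rw [mul_smul, zLe, t1])
      (by rw [mul_smul, t2]) (by rw [mul_smul, t3]) htr hne
    exact hNT w k hw hk (heq ▸ mul_mem hτ (hz c))
  by_cases hm : IsSquare (-1 : F)
  · obtain ⟨i, hi⟩ := hm
    obtain ⟨-, τ, hτ, t0, t1, t2, t3⟩ := exists_fix_rot d hK hp.iso hBef hβ hγ (a := -1) (b := 0) (by ring)
    set c := 2 * i / (γ * b₁) with hc
    have hcc : c * γ * b₁ = 2 * i := by rw [hc]; field_simp
    refine finish τ c (-(1 - c * γ * a₁ * b₁))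
      (-(-(c * γ) + c * a₁ * (a₁ * γ + c * γ * γ * b₁))) (c * γ * b₁ * b₁)
      (-(1 + c * b₁ * (a₁ * γ + c * γ * γ * b₁))) hτ t0 t1 ?_ ?_ ?_ (Or.inl ?_)
    · rw [zf, smul_add, smul_comm τ, smul_comm τ, t2, t3]; module
    · rw [zLf, smul_add, smul_comm τ, smul_comm τ, t2, t3]; module
    · linear_combination (-(c * γ * b₁ + 2 * i)) * hcc + 4 * hi
    · rw [hcc]
      exact mul_ne_zero (mul_ne_zero h2 fun e0 => neg_ne_zero.2 (one_ne_zero (α := F)) (by rw [hi, e0, mul_zero])) hb₁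
  · obtain ⟨b₀, hb₀⟩ := isSquare_mul_of_not h2 hm hns
    have hb₀0 : b₀ ≠ 0 := fun e0 => d.nu (by rw [e0, mul_zero] at hb₀; linear_combination -hb₀)
    obtain ⟨b, r, hbν, hr'⟩ : ∃ b r : F, b * b * ν = -1 ∧ b * a₁ * b₁ * (r * r) = 2 := by
      have hb : b₀⁻¹ * b₀⁻¹ * ν = -1 := by field_simp; linear_combination -hb₀
      by_cases hX : IsSquare (2 / (b₀⁻¹ * a₁ * b₁))
      · obtain ⟨r, hr⟩ := hX
        exact ⟨b₀⁻¹, r, hb, by rw [← hr]; field_simp⟩
      · obtain ⟨r, hr⟩ := isSquare_mul_of_not h2 hm hX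
        exact ⟨-b₀⁻¹, r, by linear_combination hb, by rw [← hr]; field_simp⟩
    obtain ⟨-, τ, hτ, t0, t1, t2, t3⟩ := exists_fix_rot d hK hp.iso hBef hβ hγ (a := 0) (b := b)
      (by linear_combination -hbν)
    set c := r / γ with hc
    have hcg : c * γ = r := by rw [hc]; field_simp
    clear_value c
    refine finish τ c (b * ν * (-(c * γ * b₁ * b₁))) (b * ν * (1 + c * b₁ * (a₁ * γ + c * γ * γ * b₁)))
      (b * (1 - c * γ * a₁ * b₁)) (b * (-(c * γ) + c * a₁ * (a₁ * γ + c * γ * γ * b₁))) hτ t0 t1 ?_ ?_ ?_ ?_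
    · rw [zf, smul_add, smul_comm τ, smul_comm τ, t2, t3]; module
    · rw [zLf, smul_add, smul_comm τ, smul_comm τ, t2, t3]; module
    · linear_combination hr' + b * c * γ * hab + (b * a₁ * b₁ * (c * γ + r)) * hcg
    · by_contra hcon
      simp only [not_or, not_not] at hcon
      obtain ⟨hC, hB⟩ := hcon
      have hb0 : b ≠ 0 := fun e0 => by simp [e0] at hr'; exact h2 hr'.symm
      have k1 : r * a₁ * b₁ = 1 := by
        have := (mul_eq_zero.1 hC).resolve_left hb0
        rw [← hcg]; linear_combination -this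
      have k2 : 2 + r * r * b₁ * b₁ = 0 := by
        have := (mul_eq_zero.1 hB).resolve_left (mul_ne_zero hb0 d.nu)
        linear_combination this + (-1 : F) * k1 + (-(a₁ * b₁) - b₁ * b₁ * (r + c * γ)) * hcg
      have k3 : b * r = 2 := by linear_combination hr' + (-(b * r)) * k1
      have k4 : 4 * ν = -(r * r) := by linear_combination (-(ν * (b * r + 2))) * k3 + r * r * hbν
      have k5 : 1 + 2 * (a₁ * a₁) = 0 := by
        linear_combination (a₁ * a₁) * k2 + (-(r * a₁ * b₁ + 1)) * k1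
      have : (8 : F) = 0 := by
        linear_combination (2 : F) * k5 + (-4 : F) * hab + (-(b₁ * b₁)) * k4 + k2
      exact mul_ne_zero h2 (mul_ne_zero h2 h2) (by linear_combination this)

end H48.SkewFour
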