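import Cfsg.Agent.H48.SkewFour.Moves
import Cfsg.Agent.H49.Adjoint
import Cfsg.Agent.H49.RegularCentralizer

/-!
# The stabiliser of two complementary isotropic planes and the normaliser of `GU₂(q)` in `Sp₄(q)`
-/

set_option autoImplicit false
set_option linter.unusedSimpArgs false

namespace H48.SkewFour

open Matrix H49
open H48 (sf tv)

variable {F : Type*} [Field F] [Fintype F]

local notation "V" => (Fin 2 ⊕ Fin 2 → F)
local notation "Sp" => Matrix.symplecticGroup (Fin 2) F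

/-- Maximality, given the membership criterion. -/
theorem Str.isMaximalIn {L : (Fin 2 ⊕ Fin 2 → F) →ₗ[F] (Fin 2 ⊕ Fin 2 → F)} {ν : F} (d : Str L ν)
    (h5 : 5 ≤ Fintype.card F) (H : Subgroup (GL (Fin 2 ⊕ Fin 2) F))
    (hH : ∀ s : Sp, H49.spHom 2 F s ∈ H ↔
      ((∀ x, s • L x = L (s • x)) ∨ ∀ x, s • L x = -L (s • x))) :
    Cfsg.Geo.IsMaximalIn (Cfsg.spGL 2 F) (H ⊓ Cfsg.spGL 2 F) := by
  refine ⟨lt_of_le_of_ne inf_le_right ?_, fun M hHM hMK => ?_⟩
  · intro heq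
    obtain ⟨v, w, hf⟩ := d.exists_frame
    have hmem : H49.spHom 2 F (tv v 1) ∈ H := by
      have := H49.spHom_mem_spGL (tv v (1 : F))
      rw [← heq] at this
      exact this.1
    have h1 : sf (L w) v = 0 := H48.sf_eq_zero_comm (hf.v_Lw d)
    have li := LinearIndependent.pair_iff.1 (hf.li_pair d)
    rcases (hH _).1 hmem with h | h
    · have h' := h w
      rw [H48.tv_smul, H48.tv_smul, h1, hf.w_v, map_add, map_smul] at h'
      obtain ⟨-, e⟩ := li 0 1 (by linear_combination (norm := module) h')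
      exact one_ne_zero e
    · have h' := h w
      rw [H48.tv_smul, H48.tv_smul, h1, hf.w_v, map_add, map_smul] at h'
      have hli := Fintype.linearIndependent_iff.1 (hf.li d) ![0, -1, 0, 2]
        (by simp [Fin.sum_univ_four]; linear_combination (norm := module) h') 3
      exact d.two (by simpa using hli)
  by_cases hle : M ≤ H
  · exact Or.inl (le_antisymm (le_inf hle hMK) hHM)
  obtain ⟨g, hgM, hgH⟩ := SetLike.not_le_iff_exists.mp hle
  obtain ⟨x, rfl⟩ := H49.exists_spHom_eq (hMK hgM)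
  have htop : M.comap (H49.spHom 2 F) = ⊤ :=
    eq_top_of_moves d (K := M.comap (H49.spHom 2 F))
      ⟨fun h hh => hHM ⟨(hH h).2 (Or.inl hh), H49.spHom_mem_spGL h⟩,
        fun h hh => hHM ⟨(hH h).2 (Or.inr hh), H49.spHom_mem_spGL h⟩⟩
      h5 (g := x) hgM fun hx => hgH ((hH x).2 hx)
  refine Or.inr (le_antisymm hMK fun g hg => ?_)
  obtain ⟨y, rfl⟩ := H49.exists_spHom_eq hg
  have : y ∈ M.comap (H49.spHom 2 F) := by rw [htop]; trivial
  exact this

/-- Two complementary totally isotropic planes. -/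
theorem pair_maximal (hodd : Odd (Fintype.card F)) (h5 : 5 ≤ Fintype.card F)
    (D : Fin 2 → Submodule F V) (hD : Cfsg.Geo.IsMDecomposition 2 D)
    (hts : ∀ i, Cfsg.Geo.IsTotallySingularFor (Cfsg.sympForm 2 F) (D i)) :
    Cfsg.Geo.IsMaximalIn (Cfsg.spGL 2 F) (Cfsg.Geo.decompositionStabilizer D ⊓ Cfsg.spGL 2 F) := by
  classical
  have h2 : (2 : F) ≠ 0 := H49.two_ne_zero_of_odd hodd
  have hcompl : IsCompl (D 0) (D 1) := by
    refine ⟨hD.indep.pairwiseDisjoint Fin.zero_ne_one, codisjoint_iff.2 (eq_top_iff.2 ?_)⟩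
    rw [← hD.iSup_eq_top]
    refine iSup_le fun i => ?_
    fin_cases i
    · exact le_sup_left
    · exact le_sup_right
  let e := Submodule.prodEquivOfIsCompl _ _ hcompl
  let L : V →ₗ[F] V := e.toLinearMap ∘ₗ
    (LinearMap.fst F (D 0) (D 1)).prod (-(LinearMap.snd F (D 0) (D 1))) ∘ₗ e.symm.toLinearMap
  have hdec : ∀ x : V, ∃ a ∈ D 0, ∃ b ∈ D 1, a + b = x ∧ L x = a - b := by
    intro x
    refine ⟨(e.symm x).1, (e.symm x).1.2, (e.symm x).2, (e.symm x).2.2, ?_, ?_⟩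
    · conv_rhs => rw [← e.apply_symm_apply x]
      rfl
    · show ((e.symm x).1 : V) + ((-(e.symm x).2 : D 1) : V) = _
      rw [Submodule.coe_neg, sub_eq_add_neg]
  have hL0 : ∀ a ∈ D 0, L a = a := by
    intro a ha
    obtain ⟨a', ha', b', hb', hsum, hLx⟩ := hdec a
    have hb0 : b' = 0 := Submodule.disjoint_def.1 hcompl.disjoint b'
      (by rw [show b' = a - a' by rw [← hsum]; abel]; exact (D 0).sub_mem ha ha') hb'
    rw [hLx, hb0, sub_zero, ← hsum, hb0, add_zero]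
  have hL1 : ∀ b ∈ D 1, L b = -b := by
    intro b hb
    obtain ⟨a', ha', b', hb', hsum, hLx⟩ := hdec b
    have ha0 : a' = 0 := Submodule.disjoint_def.1 hcompl.disjoint a' ha'
      (by rw [show a' = b - b' by rw [← hsum]; abel]; exact (D 1).sub_mem hb hb')
    rw [hLx, ha0, zero_sub, ← hsum, ha0, zero_add]
  have hiso : ∀ i, ∀ x ∈ D i, ∀ y ∈ D i, sf x y = 0 := fun i x hx y hy => hts i x hx y hy
  have d : Str L 1 := by
    refine ⟨fun x y => ?_, fun x => ?_, one_ne_zero, h2⟩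
    · obtain ⟨a, ha, b, hb, rfl, hx⟩ := hdec x
      obtain ⟨a', ha', b', hb', rfl, hy⟩ := hdec y
      rw [hx, hy]
      simp [hiso 0 a ha a' ha', hiso 1 b hb b' hb']
      ring
    · obtain ⟨a, ha, b, hb, rfl, hx⟩ := hdec x
      rw [hx, map_sub, hL0 a ha, hL1 b hb, one_smul, sub_neg_eq_add]
  refine d.isMaximalIn h5 _ fun s => ?_
  let S := DistribMulAction.toLinearEquiv F V s
  have hL : Matrix.toLin' ((H49.spHom 2 F s : GL (Fin 2 ⊕ Fin 2) F) :
      Matrix (Fin 2 ⊕ Fin 2) (Fin 2 ⊕ Fin 2) F) = S.toLinearMap := LinearMap.ext fun x => rfl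
  have heq : ∀ i j, (∀ x ∈ D i, s • x ∈ D j) → (D i).map S.toLinearMap = D j := fun i j h =>
    Submodule.eq_of_le_of_finrank_eq (Submodule.map_le_iff_le_comap.2 h)
      (by rw [LinearEquiv.finrank_map_eq, hD.finrank_eq, hD.finrank_eq])
  have hperm : ∀ σ : Equiv.Perm (Fin 2), (σ 0 = 0 ∧ σ 1 = 1) ∨ (σ 0 = 1 ∧ σ 1 = 0) := by decide
  constructor
  · rintro ⟨σ, hσ⟩
    have h : ∀ i, ∀ x ∈ D i, s • x ∈ D (σ i) := fun i x hx => hσ i ▸ ⟨x, hx, rfl⟩
    rcases hperm σ with ⟨e0, e1⟩ | ⟨e0, e1⟩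
    · refine Or.inl fun x => ?_
      obtain ⟨a, ha, b, hb, rfl, hx⟩ := hdec x
      rw [hx, smul_sub, smul_add, map_add, hL0 _ (e0 ▸ h 0 a ha), hL1 _ (e1 ▸ h 1 b hb), sub_eq_add_neg]
    · refine Or.inr fun x => ?_
      obtain ⟨a, ha, b, hb, rfl, hx⟩ := hdec x
      rw [hx, smul_sub, smul_add, map_add, hL1 _ (e0 ▸ h 0 a ha), hL0 _ (e1 ▸ h 1 b hb)]
      abel
  · have hmemD : ∀ z : V, (L z = z → z ∈ D 0) ∧ (L z = -z → z ∈ D 1) := by
      intro z
      obtain ⟨a, ha, b, hb, rfl, hz⟩ := hdec z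
      constructor <;> intro h <;> rw [hz] at h
      · have : (2 : F) • b = 0 := by linear_combination (norm := module) -h
        rw [(smul_eq_zero.1 this).resolve_left h2, add_zero]; exact ha
      · have : (2 : F) • a = 0 := by linear_combination (norm := module) h
        rw [(smul_eq_zero.1 this).resolve_left h2, zero_add]; exact hb
    rintro (h | h)
    · refine ⟨1, fun i => ?_⟩
      rw [hL]
      fin_cases i
      · exact heq 0 0 fun x hx => (hmemD _).1 (by rw [← h, hL0 x hx])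
      · exact heq 1 1 fun x hx => (hmemD _).2 (by rw [← h, hL1 x hx, smul_neg])
    · refine ⟨Equiv.swap 0 1, fun i => ?_⟩
      rw [hL]
      fin_cases i
      · exact heq 0 1 fun x hx => (hmemD _).2 (by have := h x; rw [hL0 x hx] at this; exact neg_eq_iff_eq_neg.1 this.symm)
      · exact heq 1 0 fun x hx => (hmemD _).1 (by have := h x; rw [hL1 x hx, smul_neg] at this; exact (neg_inj.1 this).symm)

/-- The normaliser of an adjoint-closed, not self-adjoint quadratic field. -/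
theorem unitary_maximal (hodd : Odd (Fintype.card F)) (h5 : 5 ≤ Fintype.card F)
    (K : Subalgebra F (Matrix (Fin 2 ⊕ Fin 2) (Fin 2 ⊕ Fin 2) F)) (hK : Cfsg.Geo.IsFieldSubalgebra 2 K)
    (hac : Cfsg.Geo.IsAdjointClosedFor (Cfsg.sympForm 2 F) K)
    (hnsa : ¬ Cfsg.Geo.IsSelfAdjointFor (Cfsg.sympForm 2 F) K) :
    Cfsg.Geo.IsMaximalIn (Cfsg.spGL 2 F) (Cfsg.Geo.subalgebraNormalizer K ⊓ Cfsg.spGL 2 F) := by
  classical
  have h2 : (2 : F) ≠ 0 := H49.two_ne_zero_of_odd hodd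
  haveI : Nonempty (Fin 2 ⊕ Fin 2) := ⟨Sum.inl 0⟩
  obtain ⟨k, hk, u, v, huv⟩ : ∃ k ∈ K, ∃ u v, Cfsg.sympForm 2 F (k *ᵥ u) v ≠ Cfsg.sympForm 2 F u (k *ᵥ v) := by
    simpa [Cfsg.Geo.IsSelfAdjointFor] using hnsa
  obtain ⟨k', hk', hadj⟩ := hac k hk
  have hk'eq : k' = H49.adjS k := by
    refine H49.ext_sf fun a b => ?_
    rw [← H49.sf_mulVec, ← H48.sympForm_eq_sf, ← H48.sympForm_eq_sf]
    exact (hadj a b).symm
  obtain ⟨j, hjK, hjadj, hj0⟩ : ∃ j ∈ K, H49.adjS j = -j ∧ j ≠ 0 := by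
    refine ⟨k - k', sub_mem hk hk', ?_, fun h => huv ?_⟩
    · rw [hk'eq, H49.adjS_sub, H49.adjS_adjS, neg_sub]
    · rw [hadj u v, ← sub_eq_zero.1 h]
  have hjns : ∀ c : F, j ≠ c • 1 := by
    intro c hc
    have h := hjadj
    rw [hc, H49.adjS_scalar, ← neg_smul] at h
    have h' := smul_left_injective F (one_ne_zero : (1 : Matrix (Fin 2 ⊕ Fin 2) (Fin 2 ⊕ Fin 2) F) ≠ 0) h
    have : (2 : F) * c = 0 := by linear_combination h'
    exact hj0 (by rw [hc, (mul_eq_zero.1 this).resolve_left h2, zero_smul])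
  have hspan : Submodule.span F {(1 : Matrix (Fin 2 ⊕ Fin 2) (Fin 2 ⊕ Fin 2) F), j} =
      Subalgebra.toSubmodule K := by
    have hli : LinearIndependent F ![(1 : Matrix (Fin 2 ⊕ Fin 2) (Fin 2 ⊕ Fin 2) F), j] := by
      rw [LinearIndependent.pair_iff' one_ne_zero]
      exact fun c => (hjns c).symm
    refine Submodule.eq_of_le_of_finrank_eq ?_ ?_
    · rw [Submodule.span_le, Set.insert_subset_iff, Set.singleton_subset_iff]
      exact ⟨K.one_mem, hjK⟩
    · have h := finrank_span_eq_card hli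
      rw [Matrix.range_cons, Matrix.range_cons, Matrix.range_empty, Set.union_empty, Set.singleton_union,
        Fintype.card_fin] at h
      rw [h]
      exact hK.finrank_eq.symm
  have hmemK : ∀ x, x ∈ K ↔ ∃ a b : F, a • (1 : Matrix (Fin 2 ⊕ Fin 2) (Fin 2 ⊕ Fin 2) F) + b • j = x :=
    fun x => by rw [← Subalgebra.mem_toSubmodule, ← hspan, Submodule.mem_span_pair]
  obtain ⟨ν, hν⟩ : ∃ ν : F, j * j = ν • 1 := by
    obtain ⟨a, b, hab⟩ := (hmemK _).1 (K.mul_mem hjK hjK)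
    refine ⟨a, ?_⟩
    have h := congrArg H49.adjS hab
    rw [H49.adjS_mul, hjadj, neg_mul_neg, H49.adjS_add, H49.adjS_scalar, H49.adjS_smul, hjadj, ← hab] at h
    have h' : (2 * b) • j = 0 := by linear_combination (norm := module) -h
    rw [← hab, (mul_eq_zero.1 ((smul_eq_zero.1 h').resolve_right hj0)).resolve_left h2, zero_smul, add_zero]
  have hν0 : ν ≠ 0 := by
    rintro rfl
    obtain ⟨y, -, hy⟩ := hK.inv _ hjK hj0
    rw [zero_smul] at hν
    have : j * (j * y) = 0 := by rw [← mul_assoc, hν, zero_mul]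
    rw [hy, mul_one] at this
    exact hj0 this
  let L : V →ₗ[F] V := Matrix.toLin' j
  have hL : ∀ w, L w = j *ᵥ w := fun w => rfl
  have d : Str L ν := by
    refine ⟨fun x y => ?_, fun x => ?_, hν0, h2⟩
    · rw [hL, hL, H49.sf_mulVec, hjadj, neg_mulVec, map_neg]
    · rw [hL, hL, mulVec_mulVec, hν, smul_mulVec, one_mulVec]
  refine d.isMaximalIn h5 _ fun s => ?_
  set U := H49.spHom 2 F s with hU
  have hUv : ∀ z, (U : Matrix (Fin 2 ⊕ Fin 2) (Fin 2 ⊕ Fin 2) F) *ᵥ z = s • z := fun z => rfl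
  constructor
  · intro hs
    obtain ⟨a, b, hab⟩ := (hmemK _).1 ((hs j).1 hjK)
    have hrel : ∀ z, s • L z = a • (s • z) + b • L (s • z) := by
      intro z
      have h : (a • (1 : Matrix (Fin 2 ⊕ Fin 2) (Fin 2 ⊕ Fin 2) F) + b • j) *
          (U : Matrix (Fin 2 ⊕ Fin 2) (Fin 2 ⊕ Fin 2) F) =
          (U : Matrix (Fin 2 ⊕ Fin 2) (Fin 2 ⊕ Fin 2) F) * j := by
        rw [hab, mul_assoc, Units.inv_mul, mul_one]
      have h' := congrArg (fun X => X *ᵥ z) h
      simp only [← mulVec_mulVec, add_mulVec, smul_mulVec, one_mulVec, hUv] at h'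
      rw [hL, hL]
      exact h'.symm
    obtain ⟨x, y, hxy⟩ : ∃ x y : V, sf x y ≠ 0 := by
      obtain ⟨v, w, hf⟩ := d.exists_frame
      exact ⟨v, w, by rw [hf.one]; exact one_ne_zero⟩
    have ha : a = 0 := by
      have e1 : sf (L x) y = a * sf x y + b * sf (L (s • x)) (s • y) := by
        rw [← H48.sf_smul_smul s (L x) y, hrel]; simp
      have e2 : sf x (L y) = a * sf x y + b * sf (s • x) (L (s • y)) := by
        rw [← H48.sf_smul_smul s x (L y), hrel]; simp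
      have e3 := d.skew x y
      rw [e1, e2, d.skew (s • x)] at e3
      have : (2 * a) * sf x y = 0 := by linear_combination e3
      exact (mul_eq_zero.1 ((mul_eq_zero.1 this).resolve_right hxy)).resolve_left h2
    have hb : b * b = 1 := by
      have h := hrel (L x)
      rw [ha, zero_smul, zero_add, hrel x, ha, zero_smul, zero_add, map_smul, d.sq, d.sq, smul_comm s] at h
      have hx0 : s • x ≠ 0 := by
        rw [Ne, smul_eq_zero_iff_eq]
        rintro rfl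
        simp at hxy
      rw [smul_smul, smul_smul] at h
      have := smul_left_injective F hx0 h
      exact mul_right_cancel₀ hν0 (by linear_combination -this)
    rcases mul_self_eq_one_iff.1 hb with rfl | rfl
    · exact Or.inl fun z => by rw [hrel, ha, zero_smul, zero_add, one_smul]
    · exact Or.inr fun z => by rw [hrel, ha, zero_smul, zero_add, neg_one_smul]
  · intro hs
    obtain ⟨ε, hε, hUj⟩ : ∃ ε : F, ε * ε = 1 ∧ (U : Matrix (Fin 2 ⊕ Fin 2) (Fin 2 ⊕ Fin 2) F) * j =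
        ε • (j * (U : Matrix (Fin 2 ⊕ Fin 2) (Fin 2 ⊕ Fin 2) F)) := by
      rcases hs with h | h
      · refine ⟨1, one_mul 1, Matrix.ext_iff_mulVec.2 fun w => ?_⟩
        simp only [one_smul, ← mulVec_mulVec, hUv, ← hL]
        exact h w
      · refine ⟨-1, by norm_num, Matrix.ext_iff_mulVec.2 fun w => ?_⟩
        simp only [neg_one_smul, neg_mulVec, ← mulVec_mulVec, hUv, ← hL]
        exact h w
    have hfwd : ∀ (U : GL (Fin 2 ⊕ Fin 2) F),
        (U : Matrix (Fin 2 ⊕ Fin 2) (Fin 2 ⊕ Fin 2) F) * j = ε • (j * (U : Matrix _ _ F)) →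
        ∀ x ∈ K, (U : Matrix (Fin 2 ⊕ Fin 2) (Fin 2 ⊕ Fin 2) F) * x *
          ((U⁻¹ : GL (Fin 2 ⊕ Fin 2) F) : Matrix (Fin 2 ⊕ Fin 2) (Fin 2 ⊕ Fin 2) F) ∈ K := by
      intro U hU x hx
      obtain ⟨a, b, rfl⟩ := (hmemK _).1 hx
      refine (hmemK _).2 ⟨a, b * ε, ?_⟩
      rw [mul_add, mul_smul_comm, mul_smul_comm, hU, mul_one, add_mul, smul_mul_assoc, smul_mul_assoc,
        smul_mul_assoc, mul_assoc, Units.mul_inv, mul_one, smul_smul]
    intro x
    refine ⟨fun hx => hfwd U hUj x hx, fun hx => ?_⟩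
    have hU' : ((U⁻¹ : GL (Fin 2 ⊕ Fin 2) F) : Matrix (Fin 2 ⊕ Fin 2) (Fin 2 ⊕ Fin 2) F) * j =
        ε • (j * ((U⁻¹ : GL (Fin 2 ⊕ Fin 2) F) : Matrix (Fin 2 ⊕ Fin 2) (Fin 2 ⊕ Fin 2) F)) := by
      rw [Units.inv_mul_eq_iff_eq_mul, mul_smul_comm, ← mul_assoc, hUj, smul_mul_assoc, smul_smul, hε, one_smul,
        mul_assoc, Units.mul_inv, mul_one]
    have h := hfwd U⁻¹ hU' _ hx
    rwa [inv_inv, ← mul_assoc, ← mul_assoc, Units.inv_mul, one_mul, mul_assoc, Units.inv_mul, mul_one] at h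

end H48.SkewFour
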