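import Cfsg.Agent.H48.SkewFour.Generic

/-!
# The normaliser of a skew square root of a scalar is maximal
-/

set_option autoImplicit false
set_option linter.unusedSimpArgs false

namespace H48.SkewFour

open Matrix H49
open H48 (sf tv)

variable {F : Type*} [Field F]

local notation "V" => (Fin 2 ⊕ Fin 2 → F)
local notation "Sp" => Matrix.symplecticGroup (Fin 2) F

/-- Existence of a frame. -/
theorem Str.exists_frame [Fintype F] {L : (Fin 2 ⊕ Fin 2 → F) →ₗ[F] (Fin 2 ⊕ Fin 2 → F)} {ν : F}
    (d : Str L ν) : ∃ v w, Frame L v w := by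
  classical
  have h2 := d.two
  obtain ⟨v, hv, hli⟩ : ∃ v : V, sf (L v) v = 0 ∧ LinearIndependent F ![v, L v] := by
    by_cases heig : ∃ (e : V) (μ : F), e ≠ 0 ∧ L e = μ • e
    · obtain ⟨e, μ, he, hLe⟩ := heig
      have hμν : μ * μ = ν := by
        have h := d.sq e
        rw [hLe, map_smul, hLe, smul_smul] at h
        exact smul_left_injective F he h
      have hμ : μ ≠ 0 := fun e0 => d.nu (by rw [← hμν, e0, mul_zero])
      obtain ⟨u, hu⟩ := H48.exists_sf_ne he
      -- a vector of the other eigenspace orthogonal to `e`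
      let φ : V →ₗ[F] F := (sf e).comp (L - μ • LinearMap.id)
      obtain ⟨u', hu', hne⟩ : ∃ u', φ u' = 0 ∧ L u' - μ • u' ≠ 0 := by
        by_contra hcon
        simp only [not_exists, not_and, not_not] at hcon
        -- otherwise `L - μ` kills a hyperplane
        have hrange : Module.finrank F (LinearMap.range (L - μ • LinearMap.id)) ≤ 1 := by
          have hle : LinearMap.ker φ ≤ LinearMap.ker (L - μ • LinearMap.id) := fun x hx => by
            simpa using hcon x hx
          have h1 := LinearMap.finrank_range_add_finrank_ker (L - μ • LinearMap.id)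
          have h3 := LinearMap.finrank_range_add_finrank_ker φ
          have h4 := Submodule.finrank_mono hle
          have h5 : Module.finrank F (LinearMap.range φ) ≤ 1 := (Submodule.finrank_le _).trans (by simp)
          omega
        set W := LinearMap.ker (L - μ • LinearMap.id) with hW
        have hiso : ∀ x ∈ W, ∀ y ∈ W, sf x y = 0 := fun x hx y hy => by
          have ex : L x = μ • x := sub_eq_zero.1 (by simpa [hW] using hx)
          have ey : L y = μ • y := sub_eq_zero.1 (by simpa [hW] using hy)
          have h := d.skew x y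
          rw [ex, ey, map_smul, map_smul, LinearMap.smul_apply, smul_eq_mul] at h
          exact (mul_eq_zero.1 (show (2 * μ) * sf x y = 0 by linear_combination h)).resolve_left
            (mul_ne_zero h2 hμ)
        have hW3 : 3 ≤ Module.finrank F W := by
          have h1 := LinearMap.finrank_range_add_finrank_ker (L - μ • LinearMap.id)
          rw [Module.finrank_pi] at h1
          simp only [Fintype.card_sum, Fintype.card_fin] at h1
          rw [← hW] at h1
          omega
        -- a totally isotropic space has dimension at most two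
        let ψ : W →ₗ[F] Module.Dual F V := sf.comp W.subtype
        have hψ : Function.Injective ψ := (injective_iff_map_eq_zero ψ).2 fun x hx =>
          Subtype.ext (H48.eq_zero_of_sf fun z => LinearMap.congr_fun hx z)
        have hle : LinearMap.range ψ ≤ W.dualAnnihilator := by
          rintro _ ⟨x, rfl⟩
          exact (Submodule.mem_dualAnnihilator _).2 fun y hy => hiso _ x.2 y hy
        have h1 := Submodule.finrank_mono hle
        rw [LinearMap.finrank_range_of_inj hψ] at h1
        have h3 := Subspace.finrank_add_finrank_dualAnnihilator_eq W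
        rw [Module.finrank_pi] at h3
        simp only [Fintype.card_sum, Fintype.card_fin] at h3
        omega
      set b := L u' - μ • u' with hb
      have hLb : L b = -μ • b := by rw [hb, map_sub, map_smul, d.sq, ← hμν]; module
      have heb : sf e b = 0 := hu'
      refine ⟨e + b, ?_, ?_⟩
      · simp [map_add, hLe, hLb, heb, H48.sf_eq_zero_comm heb]
      · rw [LinearIndependent.pair_iff]
        intro s t hst
        rw [map_add, hLe, hLb] at hst
        -- compare after applying `L`
        have h' := congrArg L hst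
        simp only [map_add, map_smul, hLe, hLb, map_zero, neg_smul, map_neg] at h'
        have k1 : (2 * μ * (s + t * μ)) • e = 0 := by
          linear_combination (norm := module) h' + μ • hst
        have k2 : (2 * μ * (s - t * μ)) • b = 0 := by
          linear_combination (norm := module) μ • hst - h'
        have e1 : s + t * μ = 0 :=
          (mul_eq_zero.1 ((smul_eq_zero.1 k1).resolve_right he)).resolve_left (mul_ne_zero h2 hμ)
        have e2 : s - t * μ = 0 :=
          (mul_eq_zero.1 ((smul_eq_zero.1 k2).resolve_right hne)).resolve_left (mul_ne_zero h2 hμ)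
        have hs : (2 : F) * s = 0 := by linear_combination e1 + e2
        have ht : (2 * μ) * t = 0 := by linear_combination e1 - e2
        exact ⟨(mul_eq_zero.1 hs).resolve_left h2, (mul_eq_zero.1 ht).resolve_left (mul_ne_zero h2 hμ)⟩
    · simp only [not_exists, not_and] at heig
      have hind : ∀ x : V, x ≠ 0 → LinearIndependent F ![x, L x] := fun x hx => by
        rw [LinearIndependent.pair_iff]
        intro s t hst
        rcases eq_or_ne t 0 with rfl | ht
        · rw [zero_smul, add_zero, smul_eq_zero] at hst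
          exact ⟨hst.resolve_right hx, rfl⟩
        · exact absurd (by
            rw [← inv_smul_smul₀ ht (L x), eq_neg_of_add_eq_zero_right hst]
            module) (heig x (-(s / t)) hx)
      obtain ⟨x, hx⟩ : ∃ x : V, x ≠ 0 := ⟨Pi.single (Sum.inl 0) 1, by simp⟩
      by_cases hxh : sf (L x) x = 0
      · exact ⟨x, hxh, hind x hx⟩
      have hLx : L x ∉ Submodule.span F ({x} : Set V) := by
        intro hm
        obtain ⟨c, hc⟩ := Submodule.mem_span_singleton.1 hm
        exact heig x c hx hc.symm
      let φ : V →ₗ[F] F × F := (sf.flip x).prod (sf.flip (L x))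
      obtain ⟨y, hy, hy0⟩ : ∃ y : V, φ y = 0 ∧ y ≠ 0 := by
        obtain ⟨y, hy, hy0⟩ := (Submodule.ne_bot_iff (LinearMap.ker φ)).1 fun hb => by
          have h1 := LinearMap.finrank_range_add_finrank_ker φ
          rw [hb, finrank_bot, Module.finrank_pi] at h1
          have h2' := Submodule.finrank_le (LinearMap.range φ)
          simp at h1 h2'
          omega
        exact ⟨y, hy, hy0⟩
      have hy1 : sf y x = 0 := congrArg Prod.fst hy
      have hy2 : sf y (L x) = 0 := congrArg Prod.snd hy
      have hzero : ∀ z : V, sf z x = 0 → sf (x + z) x = 0 := fun z h => by simp [h]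
      by_cases hyh : sf (L y) y = 0
      · exact ⟨y, hyh, hind y hy0⟩
      obtain ⟨a, b, hab⟩ : ∃ a b : F, (a * a - ν * b * b) * sf (L y) y = -sf (L x) x := by
        have hF : ringChar F ≠ 2 := fun e => h2 (by
          haveI : CharP F 2 := e ▸ ringChar.charP F
          exact CharTwo.two_eq_zero)
        obtain ⟨a, b, hab⟩ := FiniteField.exists_root_sum_quadratic
          (f := Polynomial.X ^ 2 + Polynomial.C (sf (L x) x / sf (L y) y))
          (g := Polynomial.C (-ν) * Polynomial.X ^ 2)
          (Polynomial.degree_X_pow_add_C (by norm_num) _)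
          (by rw [Polynomial.degree_C_mul_X_pow 2 (neg_ne_zero.2 d.nu)]; rfl)
          (Nat.odd_iff.1 (Nat.not_even_iff_odd.1 fun he =>
            hF (FiniteField.even_card_iff_char_two.2 (Nat.even_iff.1 he))))
        refine ⟨a, b, ?_⟩
        simp at hab
        field_simp at hab
        linear_combination hab
      set z := a • y + b • L y with hz
      have e1 : sf (L y) x = 0 := by rw [d.skew, hy2, neg_zero]
      have e2 : sf (L y) (L x) = 0 := by rw [d.sf_LL, hy1, mul_zero, neg_zero]
      have hzh : sf (L z) z = -sf (L x) x := by rw [hz, d.hrot, hab]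
      have hzx : sf z x = 0 := by simp [hz, hy1, e1]
      have hzLx : sf z (L x) = 0 := by simp [hz, hy2, e2]
      have hLzx : sf (L z) x = 0 := by rw [d.skew, hzLx, neg_zero]
      refine ⟨x + z, ?_, hind _ fun e0 => hxh ?_⟩
      · simp [map_add, H48.sf_eq_zero_comm hzLx, hLzx, hzh]
      · rw [eq_neg_of_add_eq_zero_right e0] at hzLx
        simp at hzLx
        exact H48.sf_eq_zero_comm hzLx
  have hLv : L v ∉ Submodule.span F ({v} : Set V) := by
    intro hm
    obtain ⟨c, hc⟩ := Submodule.mem_span_singleton.1 hm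
    exact one_ne_zero (neg_eq_zero.1 (LinearIndependent.pair_iff.1 hli c (-1) (by rw [hc]; module)).2)
  have hvn : v ∉ Submodule.span F ({L v} : Set V) := by
    intro hm
    obtain ⟨c, hc⟩ := Submodule.mem_span_singleton.1 hm
    exact one_ne_zero (LinearIndependent.pair_iff.1 hli 1 (-c) (by rw [neg_smul, hc, one_smul, add_neg_cancel])).1
  obtain ⟨z, hz, hz0⟩ := H48.exists_sep hvn
  set w₀ := (sf v z)⁻¹ • z with hw₀
  have k1 : sf v w₀ = 1 := by simp [hw₀, hz0]
  have k2 : sf (L v) w₀ = 0 := by simp [hw₀, hz _ (Submodule.mem_span_singleton_self _)]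
  have hvL : sf v (L v) = 0 := H48.sf_eq_zero_comm hv
  refine ⟨v, w₀ + (-(sf (L w₀) w₀) / (2 * ν)) • L v, hv, ?_, by simp [k1, hvL], by simp [k2]⟩
  have k3 : sf v (L w₀) = 0 := by rw [d.sf_L_right, k2, neg_zero]
  have k4 : sf w₀ (L v) = 0 := H48.sf_eq_zero_comm k2
  have k5 : sf w₀ v = -1 := by rw [H48.sf_swap, k1]
  simp only [map_add, map_smul, d.sq, LinearMap.add_apply, LinearMap.smul_apply, smul_eq_mul,
    H48.sf_self, k1, d.sf_LL, k4, k5, hvL]
  field_simp [d.nu]
  ring

variable [Fintype F] {L : (Fin 2 ⊕ Fin 2 → F) →ₗ[F] (Fin 2 ⊕ Fin 2 → F)} {ν : F} (d : Str L ν)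
  {K : Subgroup (Matrix.symplecticGroup (Fin 2) F)} (hK : Over L K)
include d hK

/-- Conjugates in `K` of the root group of a frame commute with `L`. -/
theorem conj_root_comm (h5 : 5 ≤ Fintype.card F) {v w : V} (hf : Frame L v w) (hne : NE L ν K v)
    {g : Sp} (hg : g ∈ K) : Cm L (g * rt v (L v) (-(ν * 1)) 0 1 * g⁻¹) := by
  have h2 := d.two
  have hν := d.nu
  have hNT : ∀ (u : V) (c : F), u ≠ 0 → c ≠ 0 → tv u c ∉ K := fun u c hu hc =>
    tv_notMem d hK hf hne hu hc
  rw [rt_conj]
  set x := g • v with hx
  set y := g • L v with hy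
  have hxy : sf x y = 0 := by rw [hx, hy, H48.sf_smul_smul]; exact hf.v_Lv d
  have hp : Pl K x y (-ν) 0 1 := by
    refine ⟨?_, hxy, by simpa using hν, fun t => ?_, fun a b c habc => ?_⟩
    · rw [LinearIndependent.pair_iff]
      intro s t hst
      rw [hx, hy, ← smul_comm g, ← smul_comm g, ← smul_add, smul_eq_zero_iff_eq] at hst
      exact LinearIndependent.pair_iff.1 (hf.li_pair d) s t hst
    · have := mul_mem (mul_mem hg (hK.rt_mem d hf.hv t)) (inv_mem hg)
      rw [rt_conj] at this
      convert this using 2 <;> ring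
    · have h := mul_mem (mul_mem (inv_mem hg) habc) hg
      rw [hx, hy, ← rt_conj] at h
      have e : g⁻¹ * (g * rt v (L v) a b c * g⁻¹) * g = rt v (L v) a b c := by group
      rw [e] at h
      obtain ⟨e1, e2⟩ := hne a b c h
      exact ⟨c, by rw [e1]; ring, by rw [e2]; ring, by ring⟩
  have goal_eq : rt x y (-(ν * 1)) 0 1 = rt x y (-ν) 0 1 := by rw [mul_one]
  rw [goal_eq]
  clear_value x y
  by_cases hgen : ∀ p q : F, (∃ r s : F, L (p • x + q • y) = r • x + s • y) → p = 0 ∧ q = 0
  swap
  · simp only [not_forall] at hgen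
    obtain ⟨p, q, ⟨r, s, hL⟩, hpq⟩ := hgen
    by_cases hD : p * s - q * r ≠ 0
    · exact hp.case_std d hK hL hD
    rw [not_not] at hD
    -- the vector is an eigenvector
    set e := p • x + q • y with he
    have he0 : e ≠ 0 := fun e0 => hpq (LinearIndependent.pair_iff.1 hp.li p q e0)
    obtain ⟨μ, hμ⟩ : ∃ μ : F, L e = μ • e := by
      by_cases hp0 : p = 0
      · have hq : q ≠ 0 := fun hq => hpq ⟨hp0, hq⟩
        rw [hp0, zero_mul, zero_sub, neg_eq_zero, mul_eq_zero] at hD
        refine ⟨s / q, ?_⟩
        rw [hL, he, hp0, hD.resolve_left hq]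
        match_scalars <;> field_simp <;> ring
      · refine ⟨r / p, ?_⟩
        rw [hL, he]
        match_scalars
        · field_simp
        · field_simp
          linear_combination hD
    have hμν : μ * μ = ν := by
      have h := d.sq e
      rw [hμ, map_smul, hμ, smul_smul] at h
      exact smul_left_injective F he0 h
    obtain ⟨r', s', hD'⟩ : ∃ r' s' : F, p * s' - q * r' ≠ 0 := by
      by_cases hp0 : p = 0
      · exact ⟨1, 0, by simpa [hp0] using fun hq => hpq ⟨hp0, hq⟩⟩
      · exact ⟨0, 1, by simpa using hp0⟩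
    obtain ⟨α', δ', ε', hp', heq⟩ := hp.change hD'
    rw [heq]
    exact hp'.case_eigen d hK hμ hμν
  exfalso
  have hB := hp.bform_ne hgen
  have hsymm : sf (L y) x = sf (L x) y := d.sf_L_comm y x
  by_cases hns : IsSquare ν
  · obtain ⟨μ, hμ⟩ := hns
    have hμ0 : μ ≠ 0 := fun e0 => hν (by rw [hμ, e0, mul_zero])
    obtain ⟨α', δ', ε', hp', heq⟩ := hp.change (p := μ) (q := 1) (r := -μ) (s := 1)
      (by intro h0; exact mul_ne_zero h2 hμ0 (by linear_combination h0))
    set n₁ := μ • x + (1 : F) • y with hn₁
    set n₂ := (-μ) • x + (1 : F) • y with hn₂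
    have hback : rt n₁ n₂ 0 (1 / 2) 0 = rt x y (-ν) 0 1 := by
      rw [hn₁, hn₂, rt_change hxy]
      congr 1 <;> field_simp <;> (try rw [hμ]) <;> ring
    rw [heq] at hback
    obtain ⟨f1, f2, f3⟩ := rt_inj hp'.iso hp'.li hback
    rw [← f1, ← f2, ← f3] at hp'
    have hnd : sf (L n₁) n₁ ≠ 0 ∨ sf (L n₁) n₂ ≠ 0 := by
      by_contra hcon
      simp only [not_or, not_not] at hcon
      have k1 : sf (L n₁) x = 0 := by
        have h : (2 * μ) * sf (L n₁) x = 0 := by
          have e : (2 * μ) • x = n₁ - n₂ := by rw [hn₁, hn₂]; module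
          rw [← smul_eq_mul, ← map_smul, e, map_sub, hcon.1, hcon.2, sub_zero]
        exact (mul_eq_zero.1 h).resolve_left (mul_ne_zero h2 hμ0)
      have k2 : sf (L n₁) y = 0 := by
        have h : sf (L n₁) (μ • x + (1 : F) • y) = 0 := by rw [← hn₁]; exact hcon.1
        rw [map_add, map_smul, map_smul, k1] at h
        simpa using h
      exact hμ0 (hB μ 1 k1 k2).1
    refine false_of_cross d hK h5 hNT hp' hnd fun t ht h0 => ?_
    -- a vector of the plane orthogonal to all of it for the twisted form
    set f₀ := n₂ + t • n₁ with hf₀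
    have k1 : sf (L f₀) n₂ = 0 := by
      have e : n₂ = f₀ - t • n₁ := by rw [hf₀, add_sub_cancel_right]
      rw [e, map_sub, map_smul, h0, ht]; simp
    have e : f₀ = (-μ + t * μ) • x + (1 + t) • y := by rw [hf₀, hn₁, hn₂]; module
    have k2 : sf (L f₀) x = 0 := by
      have h : (2 * μ) * sf (L f₀) x = 0 := by
        have e' : (2 * μ) • x = n₁ - n₂ := by rw [hn₁, hn₂]; module
        rw [← smul_eq_mul, ← map_smul, e', map_sub, ht, k1, sub_zero]
      exact (mul_eq_zero.1 h).resolve_left (mul_ne_zero h2 hμ0)
    have k3 : sf (L f₀) y = 0 := by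
      have h : sf (L f₀) (μ • x + (1 : F) • y) = 0 := by rw [← hn₁]; exact ht
      rw [map_add, map_smul, map_smul, k2] at h
      simpa using h
    rw [e] at k2 k3
    obtain ⟨g1, g2⟩ := hB _ _ k2 k3
    exact mul_ne_zero h2 hμ0 (by linear_combination -g1 + μ * g2)
  · obtain ⟨p, q, hpq⟩ : ∃ p q : F, sf (L (p • x + q • y)) (p • x + q • y) ≠ 0 := by
      by_contra hcon
      simp only [not_exists, not_not] at hcon
      have a1 : sf (L x) x = 0 := by simpa using hcon 1 0
      have a2 : sf (L y) y = 0 := by simpa using hcon 0 1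
      have a3 : sf (L x) y = 0 := by
        have := hcon 1 1
        simp [a1, a2, hsymm] at this
        exact (mul_eq_zero.1 (show (2 : F) * sf (L x) y = 0 by linear_combination this)).resolve_left h2
      exact one_ne_zero (hB 1 0 (by simpa using a1) (by simpa using a3)).1
    set e := p • x + q • y with he
    set r := -(sf (L e) y) with hr
    set s := sf (L e) x with hs
    have hD : p * s - q * r ≠ 0 := by
      intro h0
      apply hpq
      rw [show sf (L e) e = p * s - q * r by
        rw [hr, hs]; nth_rw 2 [he]; simp]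
      exact h0
    obtain ⟨α', δ', ε', hp', -⟩ := hp.change (r := r) (s := s) hD
    rw [← he] at hp'
    set f := r • x + s • y with hfd
    have hef : sf (L e) f = 0 := by
      rw [hfd, map_add, map_smul, map_smul, ← hs, smul_eq_mul, smul_eq_mul, hr]; ring
    refine false_of_anisotropic d hK h5 hns hNT hp' hef hpq fun hγ => ?_
    have k0 : sf (L f) e = 0 := by rw [d.sf_L_comm, hef]
    have k2 : sf (L f) x = 0 := by
      have h : (p * s - q * r) * sf (L f) x = 0 := by
        have e' : (p * s - q * r) • x = s • e - q • f := by rw [he, hfd]; module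
        rw [← smul_eq_mul, ← map_smul, e', map_sub, map_smul, map_smul, k0, hγ]; simp
      exact (mul_eq_zero.1 h).resolve_left hD
    have k3 : sf (L f) y = 0 := by
      have h : (p * s - q * r) * sf (L f) y = 0 := by
        have e' : (p * s - q * r) • y = p • f - r • e := by rw [he, hfd]; module
        rw [← smul_eq_mul, ← map_smul, e', map_sub, map_smul, map_smul, k0, hγ]; simp
      exact (mul_eq_zero.1 h).resolve_left hD
    rw [hfd] at k2 k3
    obtain ⟨g1, g2⟩ := hB r s k2 k3
    exact hD (by rw [g1, g2]; ring)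

/-- An overgroup of the normaliser of `L` with a further element is everything. -/
theorem eq_top_of_moves (h5 : 5 ≤ Fintype.card F) {g : Sp} (hg : g ∈ K)
    (hmove : ¬ ((∀ x, g • L x = L (g • x)) ∨ ∀ x, g • L x = -L (g • x))) : K = ⊤ := by
  by_contra htop
  obtain ⟨v, w, hf⟩ := d.exists_frame
  have hν := d.nu
  have h2 := d.two
  have hNE : ∀ {a b : V}, Frame L a b → NE L ν K a := fun hab => by
    by_contra hne
    exact htop (eq_top_of_not_ne d hK h5 hab hne)
  set L' : V →ₗ[F] V :=
    { toFun := fun x => g⁻¹ • L (g • x)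
      map_add' := fun x y => by rw [smul_add, map_add, smul_add]
      map_smul' := fun c x => by rw [smul_comm g, map_smul, smul_comm g⁻¹]; rfl } with hL'
  have hL'a : ∀ x, L' x = g⁻¹ • L (g • x) := fun x => rfl
  have hskew : ∀ x y, sf (L' x) y = -sf x (L' y) := fun x y => by
    rw [hL'a, hL'a, H48.sf_smul_left, inv_inv, d.skew, ← H48.sf_smul_smul g x, smul_inv_smul]
  have hsq : ∀ x, L' (L' x) = ν • x := fun x => by
    rw [hL'a, hL'a, smul_inv_smul, d.sq, smul_comm g⁻¹, inv_smul_smul]
  have hcomm : ∀ {a b : V}, Frame L a b → ∀ x,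
      L' (rt a (L a) (-(ν * 1)) 0 1 • x) = rt a (L a) (-(ν * 1)) 0 1 • L' x := by
    intro a b hab x
    have h := conj_root_comm d hK h5 hab (hNE hab) hg (g • x)
    set r := rt a (L a) (-(ν * 1)) 0 1
    rw [hL'a, hL'a]
    rw [mul_smul, mul_smul, mul_smul, mul_smul, inv_smul_smul] at h
    rw [← h, inv_smul_smul]
  have hvL := hf.v_Lv d
  have hwL := hf.w_Lw d
  have hLwv : sf (L w) v = 0 := H48.sf_eq_zero_comm (hf.v_Lw d)
  have hLwLv : sf (L w) (L v) = ν := by rw [H48.sf_swap, hf.Lv_Lw d, neg_neg]
  have hwLv : sf w (L v) = 0 := H48.sf_eq_zero_comm hf.zero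
  -- root elements of the two planes
  have Dv : ∀ x, rt v (L v) (-(ν * 1)) 0 1 • x - x = (-ν * sf x v) • v + sf x (L v) • L v := fun x => by
    rw [rt_smul hvL]; module
  have Dw : ∀ x, rt w (L w) (-(ν * 1)) 0 1 • x - x = (-ν * sf x w) • w + sf x (L w) • L w := fun x => by
    rw [rt_smul hwL]; module
  have cv : ∀ x, L' ((-ν * sf x v) • v + sf x (L v) • L v) =
      (-ν * sf (L' x) v) • v + sf (L' x) (L v) • L v := fun x => by
    rw [← Dv, ← Dv, map_sub, hcomm hf]
  have cw : ∀ x, L' ((-ν * sf x w) • w + sf x (L w) • L w) =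
      (-ν * sf (L' x) w) • w + sf (L' x) (L w) • L w := fun x => by
    rw [← Dw, ← Dw, map_sub, hcomm (hf.flip d)]
  have a1 := cv w
  simp only [hf.w_v, hwLv, zero_smul, add_zero, mul_neg, mul_one, neg_neg, map_smul] at a1
  have a2 := cv (L w)
  simp only [hLwv, hLwLv, mul_zero, zero_smul, zero_add, map_smul] at a2
  obtain ⟨a, b, hA⟩ : ∃ a b : F, L' v = a • v + b • L v :=
    ⟨ν⁻¹ * (-ν * sf (L' w) v), ν⁻¹ * sf (L' w) (L v), by
      rw [← inv_smul_smul₀ hν (L' v), a1]; module⟩
  obtain ⟨c, e, hA'⟩ : ∃ c e : F, L' (L v) = c • v + e • L v :=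
    ⟨ν⁻¹ * (-ν * sf (L' (L w)) v), ν⁻¹ * sf (L' (L w)) (L v), by
      rw [← inv_smul_smul₀ hν (L' (L v)), a2]; module⟩
  have b1 := cw v
  simp only [hA, hf.one, hf.v_Lw d, hf.zero, hf.Lv_Lw d, zero_smul, add_zero, mul_one, map_smul, map_add,
    LinearMap.add_apply, LinearMap.smul_apply, smul_eq_mul, mul_zero, zero_add] at b1
  have hBw : L' w = a • w + b • L w := by
    rw [← inv_smul_smul₀ (neg_ne_zero.2 hν) (L' w), b1]
    match_scalars <;> field_simp
  have b2 := cw (L v)
  simp only [hA', hf.one, hf.v_Lw d, hf.zero, hf.Lv_Lw d, zero_smul, add_zero, mul_one, mul_zero,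
    zero_add, map_smul, map_add, LinearMap.add_apply, LinearMap.smul_apply, smul_eq_mul] at b2
  have hBLw : L' (L w) = c • w + e • L w := by
    rw [← inv_smul_smul₀ (neg_ne_zero.2 hν) (L' (L w)), b2]
    match_scalars <;> field_simp
  have ha : a = 0 := by
    have h := hskew v w
    rw [hA, hBw] at h
    simp [hf.one, hf.zero, hf.v_Lw d] at h
    exact (mul_eq_zero.1 (show (2 : F) * a = 0 by linear_combination h)).resolve_left h2
  have hc : c = ν * b := by
    have h := hskew (L v) w
    rw [hA', hBw] at h
    simp [hf.one, hf.zero, hf.Lv_Lw d] at h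
    linear_combination h
  have he : e = 0 := by
    have h := hskew (L v) (L w)
    rw [hA', hBLw] at h
    simp [hf.v_Lw d, hf.Lv_Lw d, hf.zero] at h
    exact (mul_eq_zero.1 (show (2 * ν) * e = 0 by linear_combination -h)).resolve_left (mul_ne_zero h2 hν)
  have hbb : b * b = 1 := by
    have h := hsq v
    rw [hA, ha, zero_smul, zero_add, map_smul, hA', hc, he, zero_smul, add_zero, smul_smul] at h
    have h' := smul_left_injective F (by simpa using (hf.li_pair d).ne_zero 0) h
    exact mul_left_cancel₀ hν (by linear_combination h')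
  have hall : ∀ x, L' x = b • L x := by
    intro x
    obtain ⟨p, q, r, s, rfl⟩ := hf.expand d x
    simp only [map_add, map_smul, hA, hA', hBw, hBLw, ha, hc, he, d.sq]
    module
  have hgL : ∀ x, L (g • x) = b • (g • L x) := fun x => by
    have h := congrArg (g • ·) (hall x)
    rwa [hL'a, smul_inv_smul, smul_comm g] at h
  apply hmove
  rcases mul_self_eq_one_iff.1 hbb with rfl | rfl
  · exact Or.inl fun x => by rw [hgL, one_smul]
  · exact Or.inr fun x => by rw [hgL, neg_one_smul, neg_neg]

end H48.SkewFour
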