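import Cfsg.Agent.H48.SkewFour.Enlarge

/-!
# No transvections when the root group of a standard plane is small

If the root elements of a standard plane in `K` are only those of the centraliser, these form a
Sylow subgroup of `K`, so `K` has no transvection.
-/

set_option autoImplicit false
set_option linter.unusedSimpArgs false

namespace H48.SkewFour

open Matrix H49
open H48 (sf tv)

variable {F : Type*} [Field F]

local notation "V" => (Fin 2 ⊕ Fin 2 → F)
local notation "Sp" => Matrix.symplecticGroup (Fin 2) F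

/-- The root group of the centraliser in the plane of `v`. -/
noncomputable def rootHom (L : (Fin 2 ⊕ Fin 2 → F) →ₗ[F] (Fin 2 ⊕ Fin 2 → F)) (ν : F)
    (v : Fin 2 ⊕ Fin 2 → F) (hv : sf v (L v) = 0) :
    Multiplicative F →* Matrix.symplecticGroup (Fin 2) F where
  toFun t := rt v (L v) (-(ν * t.toAdd)) 0 t.toAdd
  map_one' := by simp [rt_zero]
  map_mul' s t := by
    rw [rt_mul hv, toAdd_mul, mul_add, neg_add, add_zero]

theorem tv_pow (u : V) (c : F) : ∀ n : ℕ, tv u c ^ n = tv u (n * c)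
  | 0 => by simp
  | n + 1 => by rw [pow_succ, tv_pow u c n, H48.tv_mul]; congr 1; push_cast; ring

variable [Fintype F] {L : (Fin 2 ⊕ Fin 2 → F) →ₗ[F] (Fin 2 ⊕ Fin 2 → F)} {ν : F} (d : Str L ν)
  {K : Subgroup (Matrix.symplecticGroup (Fin 2) F)}
include d

/-- A `p`-element of `K` normalising the root group lies in it. -/
theorem eq_root_of_normalizes {p : ℕ} [Fact p.Prime] [CharP F p] {v w : V} (hf : Frame L v w)
    (hne : NE L ν K v) {y : Sp} (hy : y ∈ K) {k : ℕ} (hk : y ^ p ^ k = 1) {t : F}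
    (ht : y * rt v (L v) (-(ν * 1)) 0 1 * y⁻¹ = rt v (L v) (-(ν * t)) 0 t) :
    ∃ C : F, y = rt v (L v) (-(ν * C)) 0 C := by
  classical
  have hν := d.nu
  have h2 := d.two
  have hvL := hf.v_Lv d
  have hLwv : sf (L w) v = 0 := H48.sf_eq_zero_comm (hf.v_Lw d)
  have hLwLv : sf (L w) (L v) = ν := by rw [H48.sf_swap, hf.Lv_Lw d, neg_neg]
  have hwLv : sf w (L v) = 0 := H48.sf_eq_zero_comm hf.zero
  rw [rt_conj] at ht
  have hpl : sf (y • v) (y • L v) = 0 := by rw [H48.sf_smul_smul]; exact hvL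
  obtain ⟨a, b, hv'⟩ : ∃ a b : F, y • v = a • v + b • L v := by
    have h := congrArg (· • (y • w)) ht
    simp only [rt_smul hpl, rt_smul hvL, H48.sf_smul_smul, hf.w_v, hwLv, mul_zero, zero_mul, add_zero,
      zero_smul] at h
    rw [show -(ν * 1) * -1 = ν by ring, add_assoc, add_right_inj] at h
    refine ⟨ν⁻¹ * (-(ν * t) * sf (y • w) v), ν⁻¹ * (t * sf (y • w) (L v)), ?_⟩
    rw [show y • v = ν⁻¹ • (ν • y • v) by rw [inv_smul_smul₀ hν], h]
    module
  obtain ⟨c, e, hLv'⟩ : ∃ c e : F, y • L v = c • v + e • L v := by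
    have h := congrArg (· • (y • L w)) ht
    simp only [rt_smul hpl, rt_smul hvL, H48.sf_smul_smul, hLwv, hLwLv, mul_zero, zero_mul, add_zero,
      zero_smul, one_mul, zero_add] at h
    rw [add_assoc, add_right_inj] at h
    refine ⟨ν⁻¹ * (-(ν * t) * sf (y • L w) v), ν⁻¹ * (t * sf (y • L w) (L v)), ?_⟩
    rw [show y • L v = ν⁻¹ • (ν • y • L v) by rw [inv_smul_smul₀ hν], h]
    module
  -- the matrix on the plane is unipotent
  set A : Matrix (Fin 2) (Fin 2) F := !![a, c; b, e] with hA
  have hpow : ∀ (n : ℕ), ∀ p q : F, y ^ n • (p • v + q • L v) =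
      ((A ^ n) 0 0 * p + (A ^ n) 0 1 * q) • v + ((A ^ n) 1 0 * p + (A ^ n) 1 1 * q) • L v := by
    intro n
    induction n with
    | zero => intro p q; simp
    | succ n ih =>
      intro p q
      rw [pow_succ', mul_smul, ih, smul_add, smul_comm y, smul_comm y, hv', hLv', pow_succ']
      simp only [hA, Matrix.mul_apply, Fin.sum_univ_two, Matrix.of_apply, Matrix.cons_val',
        Matrix.cons_val_zero, Matrix.cons_val_one, Matrix.empty_val', Matrix.cons_val_fin_one]
      module
  have hA1 : A ^ p ^ k = 1 := by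
    have h1 := hpow (p ^ k) 1 0
    have h2 := hpow (p ^ k) 0 1
    rw [hk, one_smul] at h1 h2
    simp only [mul_one, mul_zero, add_zero, zero_add, one_smul, zero_smul] at h1 h2
    have li := LinearIndependent.pair_iff.1 (hf.li_pair d)
    obtain ⟨e1, e2⟩ := li ((A ^ p ^ k) 0 0 - 1) ((A ^ p ^ k) 1 0)
      (by linear_combination (norm := module) -h1)
    obtain ⟨e3, e4⟩ := li ((A ^ p ^ k) 0 1) ((A ^ p ^ k) 1 1 - 1)
      (by linear_combination (norm := module) -h2)
    ext i j
    fin_cases i <;> fin_cases j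
    exacts [sub_eq_zero.1 e1, e3, e2, sub_eq_zero.1 e4]
  have hdet : a * e - c * b = 1 := by
    have h := congrArg Matrix.det hA1
    rw [Matrix.det_pow, Matrix.det_one, hA, Matrix.det_fin_two_of] at h
    have h0 : (a * e - c * b - 1) ^ p ^ k = 0 := by rw [sub_pow_char_pow, h, one_pow, sub_self]
    exact sub_eq_zero.1 (eq_zero_of_pow_eq_zero h0)
  have htr : a + e = 2 := by
    have hnil : IsNilpotent (A - 1) :=
      ⟨p ^ k, by rw [sub_pow_char_pow_of_commute p k (Commute.one_right A), hA1, one_pow, sub_self]⟩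
    have h := (Matrix.isNilpotent_trace_of_isNilpotent hnil).eq_zero
    rw [Matrix.trace_sub, Matrix.trace_one, hA, Matrix.trace_fin_two_of] at h
    simp at h
    linear_combination h
  rw [hv', hLv', rt_change hvL] at ht
  obtain ⟨q1, q2, q3⟩ := rt_inj hvL (hf.li_pair d) ht
  have hat : a = e * t := by
    have h : ν * a = ν * (e * t) := by linear_combination (-(ν * a)) * hdet + c * q2 - e * q1
    exact mul_left_cancel₀ hν h
  have hct : c = ν * b * t := by linear_combination (-c) * hdet + a * q2 - b * q1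
  have ht1 : t = 1 := by
    have h : t * t = 1 := by
      linear_combination hdet + (-t) * q3 - e * hat + b * hct
    rcases mul_self_eq_one_iff.1 h with rfl | rfl
    · rfl
    · exact absurd (by linear_combination -htr + hat) h2
  subst ht1
  have ha : a = 1 := by
    have : (2 : F) * (a - 1) = 0 := by linear_combination htr + hat
    exact sub_eq_zero.1 ((mul_eq_zero.1 this).resolve_left h2)
  have he : e = 1 := by linear_combination ha - hat
  have hb : b = 0 := by
    have : ν * (b * b) = 0 := by linear_combination (-1 : F) * hdet + (-b) * hct + e * ha + he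
    exact mul_self_eq_zero.1 ((mul_eq_zero.1 this).resolve_left hν)
  have hc : c = 0 := by rw [hct, hb, mul_zero, zero_mul]
  rw [ha, hb, one_smul, zero_smul, add_zero] at hv'
  rw [hc, he, one_smul, zero_smul, zero_add] at hLv'
  -- so `y` is a root element of the plane
  have hexp : ∀ x : V, sf (y • x) v = sf x v ∧ sf (y • x) (L v) = sf x (L v) := fun x => by
    constructor
    · conv_lhs => rw [← hv', H48.sf_smul_smul]
    · conv_lhs => rw [← hLv', H48.sf_smul_smul]
  have hin : ∀ x : V, ∃ α β : F, y • x = x + α • v + β • L v := by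
    intro x
    obtain ⟨α, β, γ, δ, h⟩ := hf.expand d (y • x - x)
    have h1 : sf (y • x - x) v = 0 := by simp [(hexp x).1]
    have h2 : sf (y • x - x) (L v) = 0 := by simp [(hexp x).2]
    rw [h] at h1 h2
    simp [hf.hv, hf.w_v, hLwv, hwLv, hLwLv, hvL, hν] at h1 h2
    rw [h1, h2, zero_smul, zero_smul, add_zero, add_zero] at h
    exact ⟨α, β, by rw [add_assoc, ← h]; abel⟩
  obtain ⟨α, β, hw⟩ := hin w
  obtain ⟨β', γ, hLw⟩ := hin (L w)
  have hsym : β' = -(ν * β) := by
    have h := H48.sf_smul_smul y w (L w)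
    rw [hw, hLw, hf.w_Lw d] at h
    simp [hf.w_v, hwLv, hf.hv, hvL, hf.Lv_Lw d, hf.w_Lw d, hf.v_Lw d, hf.one] at h
    linear_combination -h
  have hyrt : y = rt v (L v) (-α) (-β) (γ / ν) := by
    refine H48.sp_ext fun x => ?_
    obtain ⟨A, B, C, E, rfl⟩ := hf.expand d x
    simp only [rt_smul hvL, smul_add, smul_comm y, hv', hLv', hw, hLw, map_add, map_smul,
      LinearMap.add_apply, LinearMap.smul_apply, smul_eq_mul, H48.sf_self, hvL, hf.hv, hf.w_v, hwLv,
      hLwv, hLwLv, hsym]
    match_scalars <;> field_simp <;> ring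
  obtain ⟨e1, e2⟩ := hne _ _ _ (hyrt ▸ hy)
  exact ⟨γ / ν, by rw [hyrt, e1, e2]⟩

variable (hK : Over L K)
include hK

theorem tv_notMem {v w : V} (hf : Frame L v w) (hne : NE L ν K v) {u : V} {c : F} (hu : u ≠ 0)
    (hc : c ≠ 0) : tv u c ∉ K := by
  classical
  intro hmem
  set p := ringChar F
  haveI : CharP F p := ringChar.charP F
  haveI : Fact p.Prime := ⟨CharP.char_is_prime F p⟩
  have hvL := hf.v_Lv d
  set X := (rootHom L ν v hvL).range with hX
  have hXK : X ≤ K := by
    rintro _ ⟨t, rfl⟩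
    exact hK.rt_mem d hf.hv _
  set X' := X.subgroupOf K with hX'
  have hXp : IsPGroup p X' := by
    rintro ⟨⟨x, hx⟩, t, ht⟩
    refine ⟨1, Subtype.ext (Subtype.ext ?_)⟩
    simp only [SubmonoidClass.coe_pow, pow_one, OneMemClass.coe_one]
    rw [show x = rootHom L ν v hvL t from ht.symm, ← map_pow, show t ^ p = 1 from Multiplicative.toAdd.injective (by simp), map_one]
  obtain ⟨Q, hQ⟩ := hXp.exists_le_sylow
  have hQle : (Q : Subgroup K) ≤ X' := by
    by_contra hcon
    have hlt : X'.subgroupOf (Q : Subgroup K) < ⊤ :=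
      lt_top_iff_ne_top.2 fun h => hcon (Subgroup.subgroupOf_eq_top.1 h)
    haveI : Group.IsNilpotent (Q : Subgroup K) := Q.isPGroup'.isNilpotent
    obtain ⟨y, hyN, hyX⟩ := SetLike.exists_of_lt (Group.normalizerCondition_of_isNilpotent _ hlt)
    have hr : rootHom L ν v hvL (Multiplicative.ofAdd 1) ∈ X := ⟨_, rfl⟩
    let r : (Q : Subgroup K) := ⟨⟨_, hXK hr⟩, hQ hr⟩
    have hconj := (Subgroup.mem_normalizer_iff.1 hyN r).1 hr
    obtain ⟨t, ht⟩ := hconj
    obtain ⟨k, hk⟩ := Q.isPGroup' y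
    obtain ⟨C, hC⟩ := eq_root_of_normalizes d hf hne (y := ((y : K) : Sp)) (y : K).2 (k := k)
      (by simpa using congrArg (fun z : (Q : Subgroup K) => ((z : K) : Sp)) hk) ht.symm
    exact hyX ⟨Multiplicative.ofAdd C, hC.symm⟩
  have hzp : IsPGroup p (Subgroup.zpowers (⟨tv u c, hmem⟩ : K)) := by
    refine IsPGroup.of_card_dvd_pow (n := 1) ?_
    rw [Nat.card_zpowers, pow_one, orderOf_dvd_iff_pow_eq_one]
    refine Subtype.ext ?_
    simp only [SubmonoidClass.coe_pow, OneMemClass.coe_one, tv_pow, CharP.cast_eq_zero, zero_mul,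
      H48.tv_zero]
  obtain ⟨R, hR⟩ := hzp.exists_le_sylow
  obtain ⟨g, hg⟩ := MulAction.exists_smul_eq K Q R
  have hmem' := hR (Subgroup.mem_zpowers _)
  rw [← hg, Sylow.coe_subgroup_smul] at hmem'
  obtain ⟨x, hx, hxe⟩ := hmem'
  obtain ⟨t, ht⟩ := hQle hx
  have hval : tv u c = (g : Sp) * rootHom L ν v hvL t * (g : Sp)⁻¹ := by
    have h := congrArg (fun z : K => (z : Sp)) hxe
    rw [ht]
    simpa using h.symm
  have hT : rootHom L ν v hvL t = rt v (L v) (-(ν * t.toAdd)) 0 t.toAdd := rfl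
  set s := t.toAdd with hs
  set g' : Sp := (g : Sp)
  rw [hT, rt_conj] at hval
  have hpl : sf (g' • v) (g' • L v) = 0 := by rw [H48.sf_smul_smul]; exact hvL
  have hs0 : s ≠ 0 := by
    intro hs0
    rw [hs0, mul_zero, neg_zero, rt_zero] at hval
    obtain ⟨z, hz⟩ := H48.exists_sf_ne hu
    have h := congrArg (· • z) hval
    simp only [H48.tv_smul, one_smul, add_eq_left, smul_eq_zero, mul_eq_zero] at h
    rcases h with (h | h) | h
    exacts [hc h, hz (H48.sf_eq_zero_comm h), hu h]
  have hLwv : sf (L w) v = 0 := H48.sf_eq_zero_comm (hf.v_Lw d)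
  have hLwLv : sf (L w) (L v) = ν := by rw [H48.sf_swap, hf.Lv_Lw d, neg_neg]
  have hwLv : sf w (L v) = 0 := H48.sf_eq_zero_comm hf.zero
  have h1 := congrArg (· • (g' • w)) hval
  have h2 := congrArg (· • (g' • L w)) hval
  simp only [H48.tv_smul, rt_smul hpl, H48.sf_smul_smul, hf.w_v, hwLv, hLwv, hLwLv, mul_zero, zero_mul,
    add_zero, zero_add, zero_smul, add_right_inj] at h1 h2
  generalize c * sf (g' • w) u = A at h1
  generalize c * sf (g' • L w) u = B at h2
  have hz : g' • ((B * (ν * s)) • v - (A * (s * ν)) • L v) = 0 := by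
    rw [smul_sub, smul_comm g', smul_comm g', mul_smul B, mul_smul A,
      show ν * s = -(ν * s) * -1 by ring, ← h1, ← h2]
    module
  rw [smul_eq_zero_iff_eq, sub_eq_add_neg, ← neg_smul] at hz
  obtain ⟨eB, eA⟩ := LinearIndependent.pair_iff.1 (hf.li_pair d) _ _ hz
  have hν := d.nu
  have hA0 : A = 0 := by simpa [hs0, hν] using eA
  rw [hA0, zero_smul] at h1
  have : g' • v = 0 := (smul_eq_zero.1 h1.symm).resolve_left (by simp [hs0, hν])
  rw [smul_eq_zero_iff_eq] at this
  have h := hf.one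
  rw [this] at h
  simp at h

end H48.SkewFour
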