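import Cfsg.Agent.H48.SkewFour.NoTransvection

/-!
# The conjugates of the root group of a standard plane
-/

set_option autoImplicit false
set_option linter.unusedSimpArgs false

namespace H48.SkewFour

open Matrix H49
open H48 (sf tv)

variable {F : Type*} [Field F]

local notation "V" => (Fin 2 ⊕ Fin 2 → F)
local notation "Sp" => Matrix.symplecticGroup (Fin 2) F

/-- A plane in which the root elements lying in `K` form one line of coefficients. -/
structure Pl (K : Subgroup (Matrix.symplecticGroup (Fin 2) F)) (e f : Fin 2 ⊕ Fin 2 → F)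
    (α δ ε : F) : Prop where
  li : LinearIndependent F ![e, f]
  iso : sf e f = 0
  nd : α * ε - δ * δ ≠ 0
  mem : ∀ t : F, rt e f (t * α) (t * δ) (t * ε) ∈ K
  uniq : ∀ a b c : F, rt e f a b c ∈ K → ∃ t : F, a = t * α ∧ b = t * δ ∧ c = t * ε

/-- Commuting with `L`. -/
def Cm (L : (Fin 2 ⊕ Fin 2 → F) →ₗ[F] (Fin 2 ⊕ Fin 2 → F)) (h : Matrix.symplecticGroup (Fin 2) F) :
    Prop :=
  ∀ u, h • L u = L (h • u)

namespace Pl

variable {K : Subgroup (Matrix.symplecticGroup (Fin 2) F)} {e f : Fin 2 ⊕ Fin 2 → F} {α δ ε : F}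
  (hp : Pl K e f α δ ε)
include hp

/-- A new basis of the same plane. -/
theorem change {p q r s : F} (hD : p * s - q * r ≠ 0) :
    ∃ α' δ' ε' : F, Pl K (p • e + q • f) (r • e + s • f) α' δ' ε' ∧
      rt e f α δ ε = rt (p • e + q • f) (r • e + s • f) α' δ' ε' := by
  set D := p * s - q * r with hDdef
  set e' := p • e + q • f with he'
  set f' := r • e + s • f with hf'
  have hiso : sf e' f' = 0 := by simp [he', hf', hp.iso, H48.sf_eq_zero_comm hp.iso]
  have he : e = (s / D) • e' + (-q / D) • f' := by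
    rw [he', hf']; match_scalars
    · field_simp
      rw [hDdef]; ring
    · field_simp; ring
  have hf : f = (-r / D) • e' + (p / D) • f' := by
    rw [he', hf']; match_scalars
    · field_simp; ring
    · field_simp
      rw [hDdef]; ring
  have hli : LinearIndependent F ![e', f'] := by
    rw [LinearIndependent.pair_iff]
    intro x y hxy
    obtain ⟨h1, h2⟩ := LinearIndependent.pair_iff.1 hp.li (x * p + y * r) (x * q + y * s)
      (by rw [← hxy, he', hf']; module)
    have hx : x * D = 0 := by rw [hDdef]; linear_combination s * h1 - r * h2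
    have hy : y * D = 0 := by rw [hDdef]; linear_combination p * h2 - q * h1
    exact ⟨(mul_eq_zero.1 hx).resolve_right hD, (mul_eq_zero.1 hy).resolve_right hD⟩
  let φ := fun a b c : F => rt e' f'
    (a * (s / D) * (s / D) + 2 * b * (s / D) * (-r / D) + c * (-r / D) * (-r / D))
    (a * (s / D) * (-q / D) + b * ((s / D) * (p / D) + (-q / D) * (-r / D)) + c * (-r / D) * (p / D))
    (a * (-q / D) * (-q / D) + 2 * b * (-q / D) * (p / D) + c * (p / D) * (p / D))
  have hφ : ∀ a b c, rt e f a b c = φ a b c := fun a b c => by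
    conv_lhs => rw [he, hf]
    exact rt_change hiso _ _ _ _ a b c
  refine ⟨_, _, _, ⟨hli, hiso, ?_, fun t => ?_, fun a b c habc => ?_⟩, hφ α δ ε⟩
  · intro h0
    apply hp.nd
    have : (α * ε - δ * δ) * (D * D) = 0 := by
      field_simp at h0
      rw [hDdef] at h0 ⊢
      linear_combination h0
    exact (mul_eq_zero.1 this).resolve_right (mul_ne_zero hD hD)
  · have := hp.mem t
    rw [hφ] at this
    convert this using 2 <;> ring
  · rw [he', hf', rt_change hp.iso] at habc
    obtain ⟨t, h1, h2, h3⟩ := hp.uniq _ _ _ habc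
    have e1 : rt e' f' a b c = rt e f (t * α) (t * δ) (t * ε) := by
      rw [← h1, ← h2, ← h3, he', hf', rt_change hp.iso]
    rw [hφ] at e1
    obtain ⟨g1, g2, g3⟩ := rt_inj hiso hli e1
    exact ⟨t, by rw [g1]; ring, by rw [g2]; ring, by rw [g3]; ring⟩

/-- An element of `K` preserving the plane fixes the line of coefficients. -/
theorem stable {h : Sp} (hh : h ∈ K) {p q r s : F} (he : h • e = p • e + q • f)
    (hf : h • f = r • e + s • f) :
    ∃ t : F, α * p * p + 2 * δ * p * r + ε * r * r = t * α ∧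
      α * p * q + δ * (p * s + q * r) + ε * r * s = t * δ ∧
      α * q * q + 2 * δ * q * s + ε * s * s = t * ε := by
  have h1 := mul_mem (mul_mem hh (hp.mem 1)) (inv_mem hh)
  rw [rt_conj, he, hf, rt_change hp.iso] at h1
  obtain ⟨t, e1, e2, e3⟩ := hp.uniq _ _ _ h1
  exact ⟨t, by linear_combination e1, by linear_combination e2, by linear_combination e3⟩

/-- The plane is its own perpendicular. -/
theorem perp {u : V} (h1 : sf u e = 0) (h2 : sf u f = 0) : ∃ a b : F, u = a • e + b • f := by
  have he : e ∉ Submodule.span F ({f} : Set V) := by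
    intro hm
    obtain ⟨a, ha⟩ := Submodule.mem_span_singleton.1 hm
    exact one_ne_zero (LinearIndependent.pair_iff.1 hp.li 1 (-a) (by rw [← ha]; module)).1
  have hf : f ∉ Submodule.span F ({e} : Set V) := by
    intro hm
    obtain ⟨a, ha⟩ := Submodule.mem_span_singleton.1 hm
    exact one_ne_zero (neg_eq_zero.1 (LinearIndependent.pair_iff.1 hp.li a (-1) (by rw [← ha]; module)).2)
  obtain ⟨x, hx, hxe⟩ := H48.exists_sep he
  obtain ⟨y, hy, hyf⟩ := H48.exists_sep hf
  have hx' : sf f x = 0 := hx f (Submodule.mem_span_singleton_self _)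
  have hy' : sf e y = 0 := hy e (Submodule.mem_span_singleton_self _)
  set y' := y + (sf x y / sf e x) • e with hy'd
  have hxy : sf x y' = 0 := by
    rw [hy'd, map_add, map_smul, H48.sf_swap e x, smul_eq_mul]
    field_simp
    ring
  have li : LinearIndependent F ![e, f, x, y'] := by
    refine li_of_pairs ?_ ?_ ?_ ?_ ?_ ?_ <;> simp only [Matrix.cons_val_zero, Matrix.cons_val_one,
      Matrix.cons_val_two, Matrix.cons_val_three, Matrix.head_cons, Matrix.tail_cons]
    exacts [hp.iso, hxy, by simp [hy'd, hy'], hx', hxe,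
      by simpa [hy'd, H48.sf_eq_zero_comm hp.iso] using hyf]
  obtain ⟨a, b, c, d, rfl⟩ := expand_four li u
  simp only [Matrix.cons_val_zero, Matrix.cons_val_one, Matrix.cons_val_two, Matrix.cons_val_three,
    Matrix.head_cons, Matrix.tail_cons] at h1 h2 ⊢
  have hyy : sf y' e = 0 := by simp [hy'd, H48.sf_eq_zero_comm hy']
  have hyf' : sf y' f ≠ 0 := fun h0 => hyf (by
    have := H48.sf_eq_zero_comm h0
    simpa [hy'd, H48.sf_eq_zero_comm hp.iso] using this)
  simp only [map_add, map_smul, LinearMap.add_apply, LinearMap.smul_apply, H48.sf_self,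
    H48.sf_eq_zero_comm hp.iso, hp.iso, hyy, H48.sf_eq_zero_comm hx', smul_eq_mul, mul_zero, zero_add,
    add_zero] at h1 h2
  have hc : c = 0 := (mul_eq_zero.1 h1).resolve_right fun h0 => hxe (H48.sf_eq_zero_comm h0)
  have hd : d = 0 := (mul_eq_zero.1 h2).resolve_right hyf'
  exact ⟨a, b, by rw [hc, hd]; simp⟩

variable {L : (Fin 2 ⊕ Fin 2 → F) →ₗ[F] (Fin 2 ⊕ Fin 2 → F)} {ν : F} (d : Str L ν) (hK : Over L K)
include d hK

/-- The plane contains a line pair `z`, `L z`. -/
theorem case_std {p q r s : F} (hL : L (p • e + q • f) = r • e + s • f)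
    (hD : p * s - q * r ≠ 0) : Cm L (rt e f α δ ε) := by
  obtain ⟨α', δ', ε', hp', heq⟩ := hp.change hD
  rw [heq]
  rw [← hL] at hp' ⊢
  set z := p • e + q • f with hz
  have hzz : sf (L z) z = 0 := H48.sf_eq_zero_comm hp'.iso
  obtain ⟨t, h1, h2, h3⟩ := hp'.uniq _ _ _ (hK.rt_mem d hzz 1)
  have ht : t ≠ 0 := fun e0 => one_ne_zero (α := F) (by rw [h3, e0, zero_mul])
  have hd : δ' = 0 := (mul_eq_zero.1 h2.symm).resolve_left ht
  have ha : α' = -(ν * ε') := mul_left_cancel₀ ht (by linear_combination -h1 + (-ν) * h3)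
  rw [hd, ha]
  exact fun u => d.rt_comm hzz ε' u

/-- The plane contains an eigenvector. -/
theorem case_eigen {μ : F} (hLe : L e = μ • e) (hμν : μ * μ = ν) : Cm L (rt e f α δ ε) := by
  have h2 := d.two
  have hμ : μ ≠ 0 := fun e0 => d.nu (by rw [← hμν, e0, mul_zero])
  set b := L f - μ • f with hb
  have hLb : L b = -μ • b := by
    rw [hb, map_sub, map_smul, d.sq, ← hμν]; module
  have heb : sf e b = 0 := by
    rw [hb, map_sub, map_smul, d.sf_L_right, hLe, map_smul, LinearMap.smul_apply, hp.iso]; simp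
  by_cases hcase : b ≠ 0 ∧ sf f b = 0
  · obtain ⟨hb0, hfb⟩ := hcase
    obtain ⟨p, q, hpq⟩ := hp.perp (H48.sf_eq_zero_comm heb) (H48.sf_eq_zero_comm hfb)
    refine hp.case_std d hK (p := 1 + p) (q := q) (r := μ * (1 - p)) (s := -(μ * q)) ?_ ?_
    · have : (1 + p) • e + q • f = e + b := by rw [hpq]; module
      rw [this, map_add, hLe, hLb, hpq]; module
    · intro h0
      have hq : q = 0 := by
        have : 2 * μ * q = 0 := by linear_combination -h0
        exact (mul_eq_zero.1 this).resolve_left (mul_ne_zero h2 hμ)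
      rw [hq, zero_smul, add_zero] at hpq
      have h := hLb
      rw [hpq, map_smul, hLe] at h
      have hne : e ≠ 0 := by simpa using hp.li.ne_zero 0
      have : (2 * μ * p) • e = 0 := by linear_combination (norm := module) h
      rcases mul_eq_zero.1 ((smul_eq_zero.1 this).resolve_right hne) with h' | h'
      · exact mul_ne_zero h2 hμ h'
      · exact hb0 (by rw [hpq, h', zero_smul])
  exfalso
  obtain ⟨b', hLb', heb', hfb'⟩ : ∃ b' : V, L b' = -μ • b' ∧ sf e b' = 0 ∧ sf f b' = 1 := by
    suffices h : ∃ b' : V, L b' = -μ • b' ∧ sf e b' = 0 ∧ sf f b' ≠ 0 by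
      obtain ⟨b', h1, h2', h3⟩ := h
      exact ⟨(sf f b')⁻¹ • b', by rw [map_smul, h1, smul_comm], by simp [h2'], by simp [h3]⟩
    by_cases hb0 : b = 0
    · have hLf : L f = μ • f := sub_eq_zero.1 hb0
      have hf' : f ∉ Submodule.span F ({e} : Set V) := by
        intro hm
        obtain ⟨a, ha⟩ := Submodule.mem_span_singleton.1 hm
        exact one_ne_zero (neg_eq_zero.1
          (LinearIndependent.pair_iff.1 hp.li a (-1) (by rw [← ha]; module)).2)
      obtain ⟨u, hu, hfu⟩ := H48.exists_sep hf'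
      have heu : sf e u = 0 := hu e (Submodule.mem_span_singleton_self _)
      refine ⟨L u - μ • u, by rw [map_sub, map_smul, d.sq, ← hμν]; module, ?_, ?_⟩
      · simp [d.sf_L_right e u, hLe, heu]
      · simp [d.sf_L_right f u, hLf]
        intro h0
        have : (2 * μ) * sf f u = 0 := by linear_combination -h0
        exact hfu ((mul_eq_zero.1 this).resolve_left (mul_ne_zero h2 hμ))
    · exact ⟨b, hLb, heb, fun h0 => hcase ⟨hb0, h0⟩⟩
  have hh : rt e b' 0 1 0 ∈ K := hK.comm _ fun x => by
    simp only [rt_smul heb', map_add, map_smul, d.skew x b', d.skew x e, hLb', hLe, smul_eq_mul]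
    module
  obtain ⟨t, h1, h2', h3⟩ := hp.stable hh (p := 1) (q := 0) (r := 1) (s := 1)
    (by rw [rt_smul heb', heb', H48.sf_self]; simp)
    (by rw [rt_smul heb', hfb', H48.sf_eq_zero_comm hp.iso]; simp [add_comm])
  by_cases hε : ε = 0
  · have hδ : δ ≠ 0 := fun e0 => hp.nd (by rw [hε, e0]; ring)
    have ht : t = 1 := mul_right_cancel₀ hδ (by linear_combination -h2' + hε)
    rw [ht] at h1
    exact hδ ((mul_eq_zero.1 (show 2 * δ = 0 by linear_combination h1 - hε)).resolve_left h2)
  · have ht : t = 1 := mul_right_cancel₀ hε (by linear_combination -h3)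
    rw [ht] at h2'
    exact hε (by linear_combination h2')

omit d hK in
/-- No vector of the plane is moved into it: the form `sf (L x) y` is non-degenerate on it. -/
theorem bform_ne (hgen : ∀ p q : F, (∃ r s : F, L (p • e + q • f) = r • e + s • f) → p = 0 ∧ q = 0)
    (p q : F) (h1 : sf (L (p • e + q • f)) e = 0) (h2 : sf (L (p • e + q • f)) f = 0) :
    p = 0 ∧ q = 0 :=
  hgen p q (hp.perp h1 h2)

end Pl

end H48.SkewFour
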